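import Mathlib
import Cfsg.Agent.BpExc.Orbit
import Cfsg.Agent.BpExc.NChev
import Cfsg.Agent.BpExc.AsmN_m3
import Cfsg.Agent.S1030
import Cfsg.Agent.FastGrp
import Cfsg.Agent.Prune
set_option linter.all false
prune_inst 0x7ffcfcfaafb8bfffdfff7e7ffeffdffc19915fffaffffd437fe863ff0fdf03000fe5fbaf8de092ff1ff7e29410b87853fb7ecfffea6bdc7ffffd5ff45ffbee0ff5f7bd0851f69c340fb82fff63f07f8e7f3fffffffffffffffffffffffffffbeffffffffffff
open scoped Cfsg.Agent.FastGrp

-- part: H238/SL2Key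
section
/-!
# Homomorphic images of `SL₂` and their fixed points under a Frobenius automorphism (helper238)

`k` a field, `φ : SL₂(k) →* Y` with `φ (u s) = φ (v t)` only for `s = t = 0`, `θ` an automorphism of `Y` mapping
`φ (u s)` to `φ (u (f s))` and `φ (v s)` to `φ (v (f' s))`.

* `upper_eq_zero` : elements of the kernel have upper right entry `0`;
* `key` : `f' (-s⁻¹) = -(f s)⁻¹` for `s ≠ 0`;
* `exists_perfect` : if `f s = c s^Q`, `f' s = c' s^Q`, `Q ≥ 4` a power of the characteristic, `k` algebraically closed,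
  the group generated by the fixed elements `φ (u s)`, `φ (v s)` contains a non-trivial `φ (u s₀)` and is perfect.
-/

set_option autoImplicit false

namespace Cfsg.Agent.H238.SL2Key

open Matrix Subgroup
open scoped commutatorElement

universe u v

variable {k : Type u} [Field k]

/-- `[[1, s], [0, 1]]` -/
def U (s : k) : _root_.Matrix.SpecialLinearGroup (Fin 2) k := ⟨!![1, s; 0, 1], by simp [Matrix.det_fin_two]⟩

/-- `[[1, 0], [s, 1]]` -/
def V (s : k) : _root_.Matrix.SpecialLinearGroup (Fin 2) k := ⟨!![1, 0; s, 1], by simp [Matrix.det_fin_two]⟩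

/-- `diag (s, s⁻¹)` -/
def H (s : k) (hs : s ≠ 0) : _root_.Matrix.SpecialLinearGroup (Fin 2) k := ⟨!![s, 0; 0, s⁻¹], by simp [Matrix.det_fin_two, hs]⟩

/-- the underlying matrix -/
def mm (A : _root_.Matrix.SpecialLinearGroup (Fin 2) k) : Matrix (Fin 2) (Fin 2) k := A.1

theorem ext2 {A B : _root_.Matrix.SpecialLinearGroup (Fin 2) k} (h : mm A = mm B) : A = B := Subtype.ext h

theorem mm_mul (A B : _root_.Matrix.SpecialLinearGroup (Fin 2) k) : mm (A * B) = mm A * mm B := rfl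

theorem mm_one : mm (1 : _root_.Matrix.SpecialLinearGroup (Fin 2) k) = 1 := rfl

theorem coe_U (s : k) : mm (U s) = !![1, s; 0, 1] := rfl
theorem coe_V (s : k) : mm (V s) = !![1, 0; s, 1] := rfl
theorem coe_H (s : k) (hs : s ≠ 0) : mm (H s hs) =
    !![s, 0; 0, s⁻¹] := rfl

theorem U_add (s t : k) : U (s + t) = U s * U t := by
  refine ext2 ?_
  rw [mm_mul, coe_U, coe_U, coe_U]
  ext i j
  (revert i j; simp only [Matrix.mul_apply, Fin.sum_univ_two, add_comm, _root_.Fin.forall_fin_succ, _root_.Matrix.of_apply, _root_.Matrix.cons_val', _root_.Matrix.cons_val_fin_one, Fin.isValue, _root_.Matrix.cons_val_zero, _root_.Matrix.cons_val_one, _root_.mul_one, _root_.MulZeroClass.mul_zero, _root_.zero_add, _root_.Matrix.cons_val_succ, _root_.forall_const, _root_.true_and, _root_.one_mul, _root_.MulZeroClass.zero_mul, _root_.implies_true, _root_.and_self])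

theorem V_add (s t : k) : V (s + t) = V s * V t := by
  refine ext2 ?_
  rw [mm_mul, coe_V, coe_V, coe_V]
  ext i j
  (revert i j; simp only [Matrix.mul_apply, Fin.sum_univ_two, _root_.Fin.forall_fin_succ, _root_.Matrix.of_apply, _root_.Matrix.cons_val', _root_.Matrix.cons_val_fin_one, Fin.isValue, _root_.Matrix.cons_val_zero, _root_.Matrix.cons_val_one, _root_.mul_one, _root_.Matrix.cons_val_succ, _root_.MulZeroClass.mul_zero, _root_.zero_add, _root_.implies_true, _root_.and_true, _root_.MulZeroClass.zero_mul, _root_.add_zero, _root_.one_mul, _root_.and_self])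

theorem U_zero : U (0 : k) = 1 := by
  refine ext2 ?_
  rw [coe_U, mm_one]
  ext i j
  (revert i j; simp only [_root_.Fin.forall_fin_succ, _root_.Matrix.of_apply, _root_.Matrix.cons_val', _root_.Matrix.cons_val_fin_one, Fin.isValue, _root_.Matrix.cons_val_zero, _root_.Matrix.cons_val_succ, _root_.IsEmpty.forall_iff, _root_.and_true, _root_.Matrix.one_apply_eq, Nat.reduceAdd, _root_.Fin.succ_zero_eq_one, _root_.ne_eq, _root_.zero_ne_one, _root_.not_false_eq_true, _root_.Matrix.one_apply_ne, _root_.and_self, _root_.Fin.succ_ne_zero, _root_.true_and])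

theorem V_zero : V (0 : k) = 1 := by
  refine ext2 ?_
  rw [coe_V, mm_one]
  ext i j
  (revert i j; simp only [_root_.Fin.forall_fin_succ, _root_.Matrix.of_apply, _root_.Matrix.cons_val', _root_.Matrix.cons_val_fin_one, Fin.isValue, _root_.Matrix.cons_val_zero, _root_.Matrix.cons_val_succ, _root_.IsEmpty.forall_iff, _root_.and_true, _root_.Matrix.one_apply_eq, Nat.reduceAdd, _root_.Fin.succ_zero_eq_one, _root_.ne_eq, _root_.zero_ne_one, _root_.not_false_eq_true, _root_.Matrix.one_apply_ne, _root_.and_self, _root_.Fin.succ_ne_zero, _root_.true_and])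

theorem U_inv (s : k) : (U s)⁻¹ = U (-s) := by
  rw [inv_eq_iff_mul_eq_one, ← U_add, add_neg_cancel, U_zero]

theorem V_inv (s : k) : (V s)⁻¹ = V (-s) := by
  rw [inv_eq_iff_mul_eq_one, ← V_add, add_neg_cancel, V_zero]

/-- `n(s) = [[0, s], [-s⁻¹, 0]]` -/
def N (s : k) : _root_.Matrix.SpecialLinearGroup (Fin 2) k := U s * V (-s⁻¹) * U s

theorem coe_N {s : k} (hs : s ≠ 0) : mm (N s) =
    !![0, s; -s⁻¹, 0] := by
  unfold N
  rw [mm_mul, mm_mul, coe_U, coe_V]
  ext i j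
  (revert i j; simp only [Matrix.mul_apply, Fin.sum_univ_two, hs, _root_.Fin.forall_fin_succ, _root_.Matrix.cons_mul, _root_.Nat.succ_eq_add_one, Nat.reduceAdd, _root_.Matrix.vecMul_cons, _root_.Matrix.head_cons, _root_.one_smul, _root_.Matrix.tail_cons, _root_.Matrix.smul_cons, _root_.smul_eq_mul, _root_.mul_neg, _root_.ne_eq, _root_.not_false_eq_true, _root_.mul_inv_cancel₀, _root_.mul_one, _root_.Matrix.smul_empty, _root_.Matrix.empty_vecMul, _root_.add_zero, _root_.Matrix.add_cons, _root_.add_neg_cancel, _root_.zero_add, _root_.Matrix.empty_add_empty, _root_.zero_smul, _root_.Matrix.empty_mul, _root_.Equiv.symm_apply_apply, _root_.Matrix.of_apply, _root_.Matrix.cons_val', _root_.Matrix.cons_val_fin_one, Fin.isValue, _root_.Matrix.cons_val_zero, _root_.Matrix.cons_val_one, _root_.MulZeroClass.mul_zero, _root_.Matrix.cons_val_succ, _root_.forall_const, _root_.true_and, _root_.MulZeroClass.zero_mul, _root_.neg_mul, _root_.inv_mul_cancel₀,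 _root_.neg_add_cancel, _root_.implies_true, _root_.and_self])

theorem N_conj {s : k} (hs : s ≠ 0) (c : k) : N s * U c * (N s)⁻¹ = V (-(c * (s⁻¹ * s⁻¹))) := by
  rw [mul_inv_eq_iff_eq_mul]
  refine ext2 ?_
  rw [mm_mul, mm_mul, coe_N hs, coe_U, coe_V]
  ext i j
  (revert i j; simp only [Matrix.mul_apply, Fin.sum_univ_two, _root_.Fin.forall_fin_succ, _root_.Matrix.of_apply, _root_.Matrix.cons_val', _root_.Matrix.cons_val_fin_one, Fin.isValue, _root_.Matrix.cons_val_zero, _root_.Matrix.cons_val_one, _root_.mul_one, _root_.MulZeroClass.mul_zero, _root_.add_zero, _root_.mul_neg, _root_.zero_add, _root_.Matrix.cons_val_succ, _root_.forall_const, _root_.MulZeroClass.zero_mul, _root_.neg_zero, _root_.one_mul, _root_.neg_mul, _root_.neg_inj, _root_.and_true, _root_.true_and]) <;> (repeat' with_reducible apply And.intro)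
  field_simp

theorem N_mul {s z : k} (hs : s ≠ 0) (hz : z ≠ 0) : N (z * s) * (N s)⁻¹ = H z hz := by
  rw [mul_inv_eq_iff_eq_mul]
  refine ext2 ?_
  rw [mm_mul, coe_N hs, coe_N (mul_ne_zero hz hs), coe_H]
  ext i j
  (revert i j; simp only [Matrix.mul_apply, Fin.sum_univ_two, mul_comm, _root_.Fin.forall_fin_succ, _root_.mul_inv_rev, _root_.Matrix.of_apply, _root_.Matrix.cons_val', _root_.Matrix.cons_val_fin_one, Fin.isValue, _root_.Matrix.cons_val_zero, _root_.Matrix.cons_val_one, _root_.MulZeroClass.zero_mul, _root_.neg_mul, _root_.zero_add, _root_.Matrix.cons_val_succ, _root_.add_zero, _root_.forall_const, _root_.MulZeroClass.mul_zero, _root_.neg_zero, _root_.and_self, _root_.implies_true])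

theorem H_comm_U {z : k} (hz : z ≠ 0) (t : k) : ⁅H z hz, U t⁆ = U ((z * z - 1) * t) := by
  rw [commutatorElement_def, mul_inv_eq_iff_eq_mul, mul_inv_eq_iff_eq_mul]
  refine ext2 ?_
  rw [mm_mul, mm_mul, mm_mul, coe_H, coe_U, coe_U]
  ext i j
  (revert i j; simp only [Matrix.mul_apply, Fin.sum_univ_two, _root_.Fin.forall_fin_succ, _root_.Matrix.of_apply, _root_.Matrix.cons_val', _root_.Matrix.cons_val_fin_one, Fin.isValue, _root_.Matrix.cons_val_zero, _root_.Matrix.cons_val_one, _root_.Matrix.cons_mul, _root_.Nat.succ_eq_add_one, Nat.reduceAdd, _root_.Matrix.vecMul_cons, _root_.Matrix.head_cons, _root_.one_smul, _root_.Matrix.tail_cons, _root_.Matrix.smul_cons, _root_.smul_eq_mul, _root_.MulZeroClass.mul_zero, _root_.mul_one, _root_.Matrix.smul_empty, _root_.Matrix.empty_vecMul, _root_.add_zero, _root_.Matrix.add_cons, _root_.Matrix.empty_add_empty, _root_.zero_smul, _root_.zero_add, _root_.Matrix.empty_mul, _root_.Equiv.symm_apply_apply,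 _root_.Matrix.cons_val_succ, _root_.forall_const, _root_.one_mul, _root_.MulZeroClass.zero_mul, _root_.implies_true, _root_.and_true, _root_.true_and]) <;> (repeat' with_reducible apply And.intro)
  field_simp
  ring

theorem H_comm_V {z : k} (hz : z ≠ 0) (t : k) : ⁅H z hz, V t⁆ = V ((z⁻¹ * z⁻¹ - 1) * t) := by
  rw [commutatorElement_def, mul_inv_eq_iff_eq_mul, mul_inv_eq_iff_eq_mul]
  refine ext2 ?_
  rw [mm_mul, mm_mul, mm_mul, coe_H, coe_V, coe_V]
  ext i j
  (revert i j; simp only [Matrix.mul_apply, Fin.sum_univ_two, _root_.Fin.forall_fin_succ, _root_.Matrix.of_apply, _root_.Matrix.cons_val', _root_.Matrix.cons_val_fin_one, Fin.isValue, _root_.Matrix.cons_val_zero, _root_.Matrix.cons_val_one, _root_.Matrix.cons_mul, _root_.Nat.succ_eq_add_one, Nat.reduceAdd, _root_.Matrix.vecMul_cons, _root_.Matrix.head_cons, _root_.one_smul, _root_.Matrix.tail_cons, _root_.zero_smul, _root_.Matrix.empty_vecMul, _root_.add_zero, _root_.Matrix.smul_cons,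 _root_.smul_eq_mul, _root_.mul_one, _root_.MulZeroClass.mul_zero, _root_.Matrix.smul_empty, _root_.Matrix.add_cons, _root_.zero_add, _root_.Matrix.empty_add_empty, _root_.Matrix.empty_mul, _root_.Equiv.symm_apply_apply, _root_.Matrix.cons_val_succ, _root_.forall_const, _root_.MulZeroClass.zero_mul, _root_.one_mul, _root_.and_true, _root_.true_and]) <;> (repeat' with_reducible apply And.intro)
  field_simp
  ring

section Ker

variable {Y : Type v} [Group Y] (φ : _root_.Matrix.SpecialLinearGroup (Fin 2) k →* Y)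
  (hφ : ∀ s t : k, φ (U s) = φ (V t) → s = 0 ∧ t = 0)

include hφ

/-- The elements of the kernel have upper right entry `0`. -/
theorem upper_eq_zero [Infinite k] {g : _root_.Matrix.SpecialLinearGroup (Fin 2) k} (hg : φ g = 1) :
    mm g 0 1 = 0 := by
  by_contra hb
  -- a field element with `z ^ 4 ≠ 1`
  obtain ⟨z, hz0, hz4⟩ : ∃ z : k, z ≠ 0 ∧ z ^ 4 - 1 ≠ 0 := by
    have hp : (Polynomial.X * (Polynomial.X ^ 4 - 1) : Polynomial k) ≠ 0 := by
      refine mul_ne_zero Polynomial.X_ne_zero ?_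
      exact Polynomial.X_pow_sub_C_ne_zero (by norm_num) (1 : k)
    obtain ⟨z, hz⟩ := Polynomial.exists_eval_ne_zero_of_natDegree_lt_card _ hp (by
      have : Cardinal.mk k ≥ Cardinal.aleph0 := Cardinal.aleph0_le_mk k
      exact lt_of_lt_of_le (Cardinal.natCast_lt_aleph0) this)
    rw [Polynomial.eval_mul, Polynomial.eval_X, Polynomial.eval_sub, Polynomial.eval_pow, Polynomial.eval_X,
      Polynomial.eval_one] at hz
    exact ⟨z, left_ne_zero_of_mul hz, right_ne_zero_of_mul hz⟩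
  set a := mm g 0 0 with ha
  set b := mm g 0 1 with hb'
  set c := mm g 1 0 with hc
  set d := mm g 1 1 with hd
  have hdet : a * d - b * c = 1 := by
    have := g.2
    rw [Matrix.det_fin_two] at this
    exact this
  have hgm : mm g = !![a, b; c, d] := by
    ext i j
    fin_cases i <;> fin_cases j <;> rfl
  have hn : ∀ x g', φ g' = 1 → φ (x * g' * x⁻¹) = 1 := by
    intro x g' h
    rw [map_mul, map_mul, h, mul_one, ← map_mul, mul_inv_cancel, map_one]
  -- conjugate to kill the upper left entry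
  have h1 := hn (V (a * b⁻¹)) g hg
  obtain ⟨g', hg'⟩ : ∃ g', g' = V (a * b⁻¹) * g * (V (a * b⁻¹))⁻¹ := ⟨_, rfl⟩
  rw [← hg'] at h1
  have hm : mm g' = !![0, b; -b⁻¹, a + d] := by
    rw [hg', V_inv, mm_mul, mm_mul, coe_V, coe_V, hgm]
    ext i j
    fin_cases i <;> fin_cases j <;> simp only [Matrix.mul_apply, Fin.sum_univ_two, _root_.Matrix.cons_mul, _root_.Nat.succ_eq_add_one, _root_.Nat.reduceAdd, _root_.Matrix.vecMul_cons, _root_.Matrix.head_cons, _root_.one_smul, _root_.Matrix.tail_cons, _root_.zero_smul, _root_.Matrix.empty_vecMul, _root_.add_zero, _root_.Matrix.smul_cons, _root_.smul_eq_mul, _root_.Matrix.smul_empty, _root_.Matrix.add_cons, _root_.Matrix.empty_add_empty, _root_.Matrix.empty_mul, _root_.Equiv.symm_apply_apply, _root_.Fin.zero_eta, _root_.Fin.isValue, _root_.Matrix.of_apply, _root_.Matrix.cons_val', _root_.Matrix.cons_val_fin_one, _root_.Matrix.cons_val_zero, _root_.mul_one, _root_.Matrix.cons_val_one, _root_.mul_neg,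 _root_.Fin.mk_one, _root_.MulZeroClass.mul_zero, _root_.zero_add, _root_.add_left_inj]
    · field_simp
      ring
    · field_simp
      linear_combination (-1 : k) * hdet
    · field_simp
  -- commutator with a diagonal element
  have h2 : φ (⁅H z hz0, g'⁆) = 1 := by
    rw [commutatorElement_def, map_mul, hn _ _ h1, map_inv, h1, inv_one, mul_one]
  have hzz : z * z ≠ 0 := mul_ne_zero hz0 hz0
  have h3 : ∃ e : k, (⁅H z hz0, g'⁆ : _root_.Matrix.SpecialLinearGroup (Fin 2) k) = V e * H (z * z) hzz := by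
    refine ⟨(a + d) * b⁻¹ * (1 - (z * z)⁻¹) * (z * z)⁻¹, ?_⟩
    rw [commutatorElement_def, mul_inv_eq_iff_eq_mul, mul_inv_eq_iff_eq_mul]
    refine ext2 ?_
    rw [mm_mul, mm_mul, mm_mul, mm_mul, coe_H, coe_H, coe_V, hm]
    ext i j
    fin_cases i <;> fin_cases j <;> simp only [Matrix.mul_apply, Fin.sum_univ_two, _root_.Fin.zero_eta, _root_.Fin.isValue, _root_.Matrix.of_apply, _root_.Matrix.cons_val', _root_.Matrix.cons_val_fin_one, _root_.Matrix.cons_val_zero, _root_.MulZeroClass.mul_zero, _root_.Matrix.cons_val_one, _root_.mul_neg, _root_.MulZeroClass.zero_mul, _root_.neg_zero, _root_.add_zero, _root_.mul_inv_rev, _root_.Matrix.cons_mul, _root_.Nat.succ_eq_add_one, _root_.Nat.reduceAdd, _root_.Matrix.vecMul_cons, _root_.Matrix.head_cons, _root_.one_smul, _root_.Matrix.tail_cons, _root_.zero_smul, _root_.Matrix.empty_vecMul, _root_.Matrix.smul_cons, _root_.smul_eq_mul, _root_.Matrix.smul_empty, _root_.Matrix.add_cons, _root_.zero_add,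 _root_.Matrix.empty_add_empty, _root_.Matrix.empty_mul, _root_.Equiv.symm_apply_apply, _root_.Fin.mk_one, _root_.neg_mul, _root_.neg_inj]
    · field_simp
    · field_simp
    · field_simp
      ring
  obtain ⟨e, he⟩ := h3
  rw [he, map_mul] at h2
  have h4 : φ (⁅H (z * z) hzz, V 1⁆) = 1 := by
    have h5 : φ (H (z * z) hzz) = (φ (V e))⁻¹ := eq_inv_of_mul_eq_one_right h2
    rw [map_commutatorElement, h5, commutatorElement_eq_one_iff_commute]
    have h6 : Commute (V e) (V 1) := by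
      show V e * V 1 = V 1 * V e
      rw [← V_add, ← V_add, add_comm]
    exact (h6.map φ).inv_left
  rw [H_comm_V] at h4
  have h5 := (hφ 0 _ (by rw [U_zero, map_one, h4])).2
  rw [mul_one, sub_eq_zero] at h5
  apply hz4
  have h6 : z * z * (z * z) = 1 := by
    have h7 : (z * z * (z * z)) * ((z * z)⁻¹ * (z * z)⁻¹) = 1 := by field_simp
    rw [h5, mul_one] at h7
    exact h7
  rw [sub_eq_zero, ← h6]
  ring

/-- `φ (u s)` and `φ (v t)` commute only if `s = 0` or `t = 0`. -/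
theorem not_commute [Infinite k] {s t : k} (hs : s ≠ 0) (ht : t ≠ 0) : ¬ Commute (φ (U s)) (φ (V t)) := by
  intro hc
  have h1 : φ (U s * V t * U (-s) * V (-t)) = 1 := by
    rw [map_mul, map_mul, map_mul, ← U_inv, ← V_inv, map_inv, map_inv, hc.eq]
    group
  have h2 := upper_eq_zero φ hφ h1
  have h3 : mm (U s * V t * U (-s) * V (-t)) 0 1 = -(s * s * t) := by
    rw [mm_mul, mm_mul, mm_mul, coe_U, coe_V, coe_U, coe_V]
    simp [Matrix.mul_apply, Fin.sum_univ_two]
    ring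
  rw [h3] at h2
  exact mul_ne_zero (mul_ne_zero hs hs) ht (neg_eq_zero.1 h2)

/-- **The action on the opposite root group is determined.** -/
theorem key [Infinite k] (θ : MulAut Y) {f f' : k → k} (hf : ∀ s, θ (φ (U s)) = φ (U (f s)))
    (hf' : ∀ s, θ (φ (V s)) = φ (V (f' s))) {s : k} (hs : s ≠ 0) : f' (-s⁻¹) = -(f s)⁻¹ := by
  obtain ⟨w, hw⟩ : ∃ w, w = f s := ⟨_, rfl⟩
  obtain ⟨d, hd⟩ : ∃ d, d = f' (-s⁻¹) := ⟨_, rfl⟩
  have hw0 : w ≠ 0 := by
    intro h0
    have h1 := hf s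
    rw [← hw, h0, U_zero, map_one, map_eq_one_iff _ θ.injective] at h1
    exact hs (hφ s 0 (by rw [h1, V_zero, map_one])).1
  have h1 : N s * U s * (N s)⁻¹ = V (-s⁻¹) := by
    rw [N_conj hs]
    congr 1
    field_simp
  have h2 := congrArg (fun x => θ (φ x)) h1
  simp only [N, map_mul, map_inv, hf, hf'] at h2
  rw [← hw, ← hd] at h2
  have h3 : φ (U w * V d * U w * V (-d) * U (-w) * V (-d)) = 1 := by
    rw [← U_inv, ← V_inv]
    simp only [map_mul, map_inv]
    rw [mul_inv_eq_one]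
    calc φ (U w) * φ (V d) * φ (U w) * (φ (V d))⁻¹ * (φ (U w))⁻¹
        = φ (U w) * φ (V d) * φ (U w) * φ (U w) * (φ (U w) * φ (V d) * φ (U w))⁻¹ := by group
      _ = φ (V d) := h2
  have h4 := upper_eq_zero φ hφ h3
  have h5 : mm (U w * V d * U w * V (-d) * U (-w) * V (-d)) 0 1 = w * (1 + w * d) ^ 2 := by
    rw [mm_mul, mm_mul, mm_mul, mm_mul, mm_mul, coe_U, coe_V, coe_V, coe_U]
    simp only [Matrix.mul_apply, Fin.sum_univ_two, _root_.Matrix.cons_mul, _root_.Nat.succ_eq_add_one, _root_.Nat.reduceAdd, _root_.Matrix.vecMul_cons, _root_.Matrix.head_cons, _root_.one_smul, _root_.Matrix.tail_cons, _root_.Matrix.smul_cons, _root_.smul_eq_mul, _root_.mul_one, _root_.Matrix.smul_empty, _root_.Matrix.empty_vecMul, _root_.add_zero, _root_.Matrix.add_cons, _root_.zero_add, _root_.Matrix.empty_add_empty, _root_.zero_smul, _root_.Matrix.empty_mul, _root_.Equiv.symm_apply_apply, _root_.MulZeroClass.mul_zero, _root_.mul_neg, _root_.Fin.isValue,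 _root_.Matrix.of_apply, _root_.Matrix.cons_val', _root_.Matrix.cons_val_fin_one, _root_.Matrix.cons_val_zero, _root_.Matrix.cons_val_one]
    ring
  rw [h5] at h4
  rcases mul_eq_zero.1 h4 with h6 | h6
  · exact absurd h6 hw0
  · have h7 : 1 + w * d = 0 := pow_eq_zero_iff (two_ne_zero) |>.1 h6
    rw [← hw, ← hd]
    field_simp
    linear_combination h7

/-- **The fixed points contain a perfect group.** -/
theorem exists_perfect [IsAlgClosed k] {r n : ℕ} [Fact r.Prime] [CharP k r] (hQ : 4 ≤ r ^ n) (θ : MulAut Y)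
    {c c' : k} (hc : c ≠ 0) (hf : ∀ s, θ (φ (U s)) = φ (U (c * s ^ r ^ n)))
    (hf' : ∀ s, θ (φ (V s)) = φ (V (c' * s ^ r ^ n))) :
    ∃ M : Subgroup Y, (∀ y ∈ M, θ y = y) ∧ M ≤ φ.range ∧ ⁅M, M⁆ = M ∧ ∃ s, s ≠ 0 ∧ φ (U s) ∈ M := by
  have hinf : Infinite k := IsAlgClosed.instInfinite
  obtain ⟨Q, hQe⟩ : ∃ Q, Q = r ^ n := ⟨_, rfl⟩
  have hsub : ∀ x y : k, (x - y) ^ Q = x ^ Q - y ^ Q := fun x y => by rw [hQe]; exact sub_pow_char_pow ..
  rw [← hQe] at hQ
  simp only [← hQe] at hf hf'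
  have hn : n ≠ 0 := by
    rintro rfl
    rw [pow_zero] at hQe
    omega
  have hQ0 : (Q : k) = 0 := by
    rw [hQe, Nat.cast_pow, CharP.cast_eq_zero, zero_pow hn]
  obtain ⟨m, hm⟩ : ∃ m, Q = m + 1 := ⟨Q - 1, by omega⟩
  have hm0 : (m : k) ≠ 0 := by
    intro h0
    rw [hm, Nat.cast_succ, h0, zero_add] at hQ0
    exact one_ne_zero hQ0
  -- a root of unity
  have : NeZero (m : k) := ⟨hm0⟩
  obtain ⟨ζ, hζ⟩ := HasEnoughRootsOfUnity.exists_primitiveRoot k m
  have hζQ : ζ ^ Q = ζ := by rw [hm, pow_succ, hζ.pow_eq_one, one_mul]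
  have hζ0 : ζ ≠ 0 := hζ.ne_zero (by omega)
  have hζ2 : ζ * ζ - 1 ≠ 0 := by
    intro h0
    have h1 : ζ ^ 2 = 1 := by rw [sq]; exact sub_eq_zero.1 h0
    exact hζ.pow_ne_one_of_pos_of_lt (by norm_num) (by omega : 2 < m) h1
  have hζ3 : ζ⁻¹ * ζ⁻¹ - 1 ≠ 0 := by
    intro h0
    apply hζ2
    have h1 := sub_eq_zero.1 h0
    have h2 : (ζ * ζ) * (ζ⁻¹ * ζ⁻¹) = 1 := by field_simp
    rw [h1, mul_one] at h2
    rw [h2, sub_self]
  -- a fixed parameter
  obtain ⟨s₀, hs₀⟩ := IsAlgClosed.exists_pow_nat_eq c⁻¹ (n := m) (by omega)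
  have hs0 : s₀ ≠ 0 := by
    rintro rfl
    rw [zero_pow (by omega)] at hs₀
    exact inv_ne_zero hc hs₀.symm
  have hs0E : c * s₀ ^ Q = s₀ := by
    rw [hm, pow_succ, hs₀, ← mul_assoc, mul_inv_cancel₀ hc, one_mul]
  let M : Subgroup Y := _root_.Subgroup.closure ({y | ∃ s, c * s ^ Q = s ∧ y = φ (U s)} ∪ {y | ∃ s, c' * s ^ Q = s ∧ y = φ (V s)})
  have hU : ∀ s, c * s ^ Q = s → φ (U s) ∈ M := fun s hs => _root_.Subgroup.subset_closure (Or.inl ⟨s, hs, rfl⟩)
  have hV : ∀ s, c' * s ^ Q = s → φ (V s) ∈ M := fun s hs => _root_.Subgroup.subset_closure (Or.inr ⟨s, hs, rfl⟩)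
  have hN : ∀ s, s ≠ 0 → c * s ^ Q = s → φ (N s) ∈ M := by
    intro s hs hE
    have h1 : c' * (-s⁻¹) ^ Q = -s⁻¹ := by
      have h2 := key φ hφ θ hf hf' hs
      rw [hE] at h2
      exact h2
    unfold N
    rw [map_mul, map_mul]
    exact mul_mem (mul_mem (hU s hE) (hV _ h1)) (hU s hE)
  have hζs : c * (ζ * s₀) ^ Q = ζ * s₀ := by
    rw [mul_pow, hζQ]
    linear_combination ζ * hs0E
  have hH : φ (H ζ hζ0) ∈ M := by
    rw [← N_mul hs0 hζ0, map_mul, map_inv]
    exact mul_mem (hN _ (mul_ne_zero hζ0 hs0) hζs) (inv_mem (hN _ hs0 hs0E))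
  refine ⟨M, ?_, ?_, le_antisymm ?_ ?_, s₀, hs0, hU s₀ hs0E⟩
  · intro y hy
    have h1 : M ≤ (θ.toMonoidHom).eqLocus (MonoidHom.id Y) := by
      rw [closure_le]
      rintro _ (⟨s, hs, rfl⟩ | ⟨s, hs, rfl⟩)
      · show θ (φ (U s)) = φ (U s)
        rw [hf, hs]
      · show θ (φ (V s)) = φ (V s)
        rw [hf', hs]
    exact h1 hy
  · rw [closure_le]
    rintro _ (⟨s, hs, rfl⟩ | ⟨s, hs, rfl⟩)
    · exact ⟨_, rfl⟩
    · exact ⟨_, rfl⟩
  · rw [commutator_le]
    intro a ha b hb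
    rw [commutatorElement_def]
    exact mul_mem (mul_mem (mul_mem ha hb) (inv_mem ha)) (inv_mem hb)
  · rw [closure_le]
    rintro _ (⟨s, hs, rfl⟩ | ⟨s, hs, rfl⟩)
    · have h1 : φ (U s) = ⁅φ (H ζ hζ0), φ (U ((ζ * ζ - 1)⁻¹ * s))⁆ := by
        rw [← map_commutatorElement, H_comm_U, ← mul_assoc, mul_inv_cancel₀ hζ2, one_mul]
      rw [SetLike.mem_coe, h1]
      refine commutator_mem_commutator hH (hU _ ?_)
      have h2 : (ζ * ζ - 1) ^ Q = ζ * ζ - 1 := by rw [hsub, mul_pow, hζQ, one_pow]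
      rw [mul_pow, inv_pow, h2]
      linear_combination (ζ * ζ - 1)⁻¹ * hs
    · have h1 : φ (V s) = ⁅φ (H ζ hζ0), φ (V ((ζ⁻¹ * ζ⁻¹ - 1)⁻¹ * s))⁆ := by
        rw [← map_commutatorElement, H_comm_V, ← mul_assoc, mul_inv_cancel₀ hζ3, one_mul]
      rw [SetLike.mem_coe, h1]
      refine commutator_mem_commutator hH (hV _ ?_)
      have h2 : (ζ⁻¹ * ζ⁻¹ - 1) ^ Q = ζ⁻¹ * ζ⁻¹ - 1 := by rw [hsub, mul_pow, inv_pow, hζQ, one_pow]
      rw [mul_pow, inv_pow, h2]
      linear_combination (ζ⁻¹ * ζ⁻¹ - 1)⁻¹ * hs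

end Ker

end Cfsg.Agent.H238.SL2Key
end

-- part: H238/OrbitProd
section
/-!
# Products over the orbits of an automorphism (helper238)

`τ` an automorphism of `Y`, `M ≤ Y` perfect, centralised by `τ ^ m`, commuting with `τ ^ i M`, `0 < i < m`. The elements
`∏_{i<m} τ^i y`, `y ∈ M`, form a perfect group of fixed points of `τ`.
-/

set_option autoImplicit false

namespace Cfsg.Agent.H238.OrbitProd

open Subgroup
open scoped commutatorElement

universe u

variable {Y : Type u} [Group Y]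

/-- `∏_{i<m} τ^i y` -/
def op (τ : MulAut Y) (y : Y) : ℕ → Y
  | 0 => 1
  | m + 1 => op τ y m * (τ ^ m) y

theorem op_zero (τ : MulAut Y) (y : Y) : op τ y 0 = 1 := rfl
theorem op_succ (τ : MulAut Y) (y : Y) (m : ℕ) : op τ y (m + 1) = op τ y m * (τ ^ m) y := rfl

theorem op_one (τ : MulAut Y) (m : ℕ) : op τ (1 : Y) m = 1 := by
  induction m with
  | zero => rfl
  | succ m ih => rw [op_succ, ih, map_one, mul_one]

theorem op_succ' (τ : MulAut Y) (y : Y) (m : ℕ) : op τ y (m + 1) = y * τ (op τ y m) := by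
  induction m with
  | zero => rw [op_succ, op_zero, map_one, pow_zero, one_mul, mul_one]; rfl
  | succ m ih =>
    have h1 : τ (op τ y (m + 1)) = τ (op τ y m) * (τ ^ (m + 1)) y := by
      rw [op_succ, map_mul, pow_succ', MulAut.mul_apply]
    calc op τ y (m + 1 + 1) = op τ y (m + 1) * (τ ^ (m + 1)) y := op_succ τ y (m + 1)
      _ = y * τ (op τ y m) * (τ ^ (m + 1)) y := by rw [ih]
      _ = _ := by rw [h1, mul_assoc]

theorem op_mem {τ : MulAut Y} {y : Y} {Q : Subgroup Y} {m : ℕ} (hQ : ∀ j < m, (τ ^ j) y ∈ Q) : op τ y m ∈ Q := by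
  induction m with
  | zero => exact one_mem _
  | succ m ih =>
    rw [op_succ]
    exact mul_mem (ih fun j hj => hQ j (by omega)) (hQ m (by omega))

theorem commute_op {τ : MulAut Y} {y v : Y} {m : ℕ} (h : ∀ j < m, Commute ((τ ^ j) y) v) : Commute (op τ y m) v := by
  induction m with
  | zero => exact Commute.one_left v
  | succ m ih =>
    rw [op_succ]
    exact (ih fun j hj => h j (by omega)).mul_left (h m (by omega))

theorem op_fixed {τ : MulAut Y} {y : Y} {m : ℕ} (hm : 0 < m) (hy : (τ ^ m) y = y)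
    (hc : ∀ i, 0 < i → i < m → Commute y ((τ ^ i) y)) : τ (op τ y m) = op τ y m := by
  obtain ⟨l, rfl⟩ : ∃ l, m = l + 1 := ⟨m - 1, by omega⟩
  have h1 : op τ y (l + 1) * (τ ^ (l + 1)) y = y * τ (op τ y (l + 1)) := by
    rw [← op_succ, op_succ']
  have h2 : Commute (op τ y (l + 1)) y := by
    refine commute_op fun j hj => ?_
    rcases Nat.eq_zero_or_pos j with rfl | h0
    · rw [pow_zero]; exact Commute.refl y
    · exact (hc j h0 hj).symm
  rw [hy, h2.eq] at h1
  exact (mul_left_cancel h1).symm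

theorem op_mul {τ : MulAut Y} {a b : Y} {m : ℕ} (hc : ∀ i, 0 < i → i < m → Commute b ((τ ^ i) a)) :
    op τ (a * b) m = op τ a m * op τ b m := by
  induction m with
  | zero => rw [op_zero, op_zero, op_zero, mul_one]
  | succ m ih =>
    rw [op_succ, op_succ, op_succ, ih fun i h0 hi => hc i h0 (by omega), map_mul]
    have h1 : Commute (op τ b m) ((τ ^ m) a) := by
      refine commute_op fun j hj => ?_
      have h2 := (hc (m - j) (by omega) (by omega)).map (τ ^ j)
      rw [← MulAut.mul_apply, ← pow_add, Nat.add_sub_cancel' hj.le] at h2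
      exact h2
    calc op τ a m * op τ b m * ((τ ^ m) a * (τ ^ m) b) = op τ a m * (op τ b m * (τ ^ m) a) * (τ ^ m) b := by group
      _ = _ := by rw [h1.eq]; group

theorem op_pow {τ : MulAut Y} {y : Y} {m : ℕ} (hc : ∀ i, 0 < i → i < m → Commute y ((τ ^ i) y)) (n : ℕ) :
    op τ (y ^ n) m = op τ y m ^ n := by
  induction n with
  | zero => rw [pow_zero, pow_zero, op_one]
  | succ n ih =>
    rw [pow_succ, op_mul (fun i h0 hi => ?_), ih, pow_succ]
    rw [map_pow]
    exact (hc i h0 hi).pow_right n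

theorem op_ne_one {τ : MulAut Y} {x v : Y} {m : ℕ} (hm : 0 < m) (hxv : ¬ Commute x v)
    (hv : ∀ i, 0 < i → i < m → Commute ((τ ^ i) x) v) : op τ x m ≠ 1 := by
  intro h2
  obtain ⟨l, rfl⟩ : ∃ l, m = l + 1 := ⟨m - 1, by omega⟩
  rw [op_succ'] at h2
  have h3 : Commute (τ (op τ x l)) v := by
    have h4 : ∀ j, j ≤ l → Commute (τ (op τ x j)) v := by
      intro j
      induction j with
      | zero => intro _; rw [op_zero, map_one]; exact Commute.one_left v
      | succ j ih =>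
        intro hj
        rw [op_succ, map_mul]
        refine (ih (by omega)).mul_left ?_
        have h5 := hv (j + 1) (by omega) (by omega)
        rw [pow_succ'] at h5
        exact h5
    exact h4 l le_rfl
  apply hxv
  have h6 : x = (τ (op τ x l))⁻¹ := eq_inv_of_mul_eq_one_left h2
  rw [h6]
  exact h3.inv_left

/-- **The perfect group of fixed points.** -/
theorem exists_perfect (τ : MulAut Y) {m : ℕ} (hm : 0 < m) {M : Subgroup Y} (hM : ⁅M, M⁆ = M)
    (hfix : ∀ y ∈ M, (τ ^ m) y = y) (hcomm : ∀ i, 0 < i → i < m → ∀ y ∈ M, ∀ y' ∈ M, Commute y ((τ ^ i) y'))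
    {x v : Y} (hx : x ∈ M) (hxv : ¬ Commute x v) (hv : ∀ i, 0 < i → i < m → Commute ((τ ^ i) x) v) :
    ∃ H : Subgroup Y, (∀ y ∈ H, τ y = y) ∧ ⁅H, H⁆ = H ∧ H ≠ ⊥ ∧
      ∀ Q : Subgroup Y, (∀ i < m, ∀ y ∈ M, (τ ^ i) y ∈ Q) → H ≤ Q := by
  let f : ↥M →* Y :=
    { toFun := fun y => op τ y m
      map_one' := op_one τ m
      map_mul' := fun a b => op_mul fun i h0 hi => hcomm i h0 hi b b.2 a a.2 }
  have hf : ∀ y : ↥M, f y = op τ y m := fun _ => rfl
  have h1 : ⁅(⊤ : Subgroup M), (⊤ : Subgroup M)⁆ = ⊤ := by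
    apply Subgroup.map_injective M.subtype_injective
    rw [Subgroup.map_commutator, ← MonoidHom.range_eq_map, Subgroup.range_subtype, hM]
  refine ⟨f.range, ?_, ?_, ?_, ?_⟩
  · rintro _ ⟨y, rfl⟩
    rw [hf]
    exact op_fixed hm (hfix y y.2) fun i h0 hi => hcomm i h0 hi y y.2 y y.2
  · rw [MonoidHom.range_eq_map, ← Subgroup.map_commutator, h1]
  · intro h0
    have h2 : f ⟨x, hx⟩ = 1 := by
      have : f ⟨x, hx⟩ ∈ f.range := ⟨_, rfl⟩
      rwa [h0, mem_bot] at this
    obtain ⟨l, rfl⟩ : ∃ l, m = l + 1 := ⟨m - 1, by omega⟩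
    rw [hf, op_succ'] at h2
    have h3 : Commute (τ (op τ x l)) v := by
      have h4 : ∀ j, j ≤ l → Commute (τ (op τ x j)) v := by
        intro j
        induction j with
        | zero => intro _; rw [op_zero, map_one]; exact Commute.one_left v
        | succ j ih =>
          intro hj
          rw [op_succ, map_mul]
          refine (ih (by omega)).mul_left ?_
          have h5 := hv (j + 1) (by omega) (by omega)
          rw [pow_succ'] at h5
          exact h5
      exact h4 l le_rfl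
    apply hxv
    have h6 : x = (τ (op τ x l))⁻¹ := eq_inv_of_mul_eq_one_left h2
    rw [h6]
    exact h3.inv_left
  · rintro Q hQ _ ⟨y, rfl⟩
    rw [hf]
    exact op_mem fun j hj => hQ j hj y y.2

end Cfsg.Agent.H238.OrbitProd
end

-- part: H238/RootOrb
section
/-!
# The extremal root of a closed set of roots with an automorphism (helper238)

`S` a closed symmetric set of roots, `g` a lattice automorphism preserving the roots, `S` and the positive roots of `S`.

* `OS.exists_root` : if `S ≠ ∅` there is `0 ≤ a ∈ S` such that no positive combination of two different members of the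
  `g`-orbit of `a` is a root and the other members of the orbit are orthogonal to `a`;
* `OS.not_root` : then `m g^i a - n g^j a` is not a root either.
-/

set_option autoImplicit false
set_option linter.unusedSectionVars false

namespace Cfsg.Agent.H238.RootOrb

open CoxeterSystem Cfsg.Agent.ChevalleyStructure.CoxeterGeom Cfsg.Agent.Tits.Roots Cfsg.Agent.Tits.Core
  Cfsg.Agent.Tits.RootComb Cfsg.Agent.Tits.Exchange Cfsg.Agent.Nodes.Reps Cfsg.Agent.Nodes.BNOf
  Cfsg.Agent.Nodes.StabComb Cfsg.Agent.Nodes.Bruhat Cfsg.Agent.Nodes.OppDec Cfsg.Agent.Nodes.LeviDec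
  Cfsg.Agent.Nodes.NormalForm Cfsg.Agent.Nodes.SubComb Cfsg.Agent.Nodes.Coroot Cfsg.Agent.KFacts.RgdField
  Cfsg.Agent.BpExc.TorCent Cfsg.Agent.BpExc.Tow Cfsg.Agent.BpExc.Fr Cfsg.Agent.BpExc.Pair Cfsg.Agent.BpExc.Orbit
open scoped commutatorElement

variable {I W : Type*} [Fintype I] [DecidableEq I] [Group W] {M : CoxeterMatrix I}
  {cs : CoxeterSystem M W} {A : I → I → ℤ} {h : IsCartan M A}

/-- a closed symmetric set of roots with an automorphism preserving its positive part -/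
structure OS (cs : CoxeterSystem M W) (h : IsCartan M A) (S : Set (I → ℤ)) (g : (I → ℤ) ≃+ (I → ℤ)) : Prop where
  root : ∀ a ∈ S, IsRoot cs h a
  groot : ∀ a, IsRoot cs h (g a) ↔ IsRoot cs h a
  comb : ∀ a ∈ S, ∀ b ∈ S, ∀ i j : ℤ, IsRoot cs h (i • a + j • b) → i • a + j • b ∈ S
  gS : ∀ a ∈ S, g a ∈ S
  gpos : ∀ a ∈ S, 0 ≤ a → 0 ≤ g a

variable {S : Set (I → ℤ)} {g : (I → ℤ) ≃+ (I → ℤ)} (D : OS cs h S g)

include D

theorem OS.neg {a : I → ℤ} (ha : a ∈ S) : -a ∈ S := by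
  have h1 := D.comb a ha a ha (-1) 0
  rw [zero_smul, add_zero, neg_one_smul] at h1
  exact h1 (D.root a ha).neg

theorem OS.iter_pos {a : I → ℤ} (ha : a ∈ S) (h0 : 0 ≤ a) (n : ℕ) : g^[n] a ∈ S ∧ 0 ≤ g^[n] a := by
  induction n with
  | zero => exact ⟨ha, h0⟩
  | succ n ih => rw [Function.iterate_succ_apply']; exact ⟨D.gS _ ih.1, D.gpos _ ih.1 ih.2⟩

/-- **The extremal root.** -/
theorem OS.exists_root [Finite W] {b : I → ℤ} (hb : b ∈ S) (hb0 : 0 ≤ b) :
    ∃ a ∈ S, 0 ≤ a ∧ (∃ N, 0 < N ∧ g^[N] a = a) ∧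
      (∀ i j : ℕ, g^[i] a ≠ g^[j] a → ∀ m n : ℕ, 0 < m → 0 < n → ¬ IsRoot cs h (m • g^[i] a + n • g^[j] a)) ∧
      ∀ i : ℕ, g^[i] a ≠ a → cpr cs h (g^[i] a) a = 0 := by
  have := Fintype.ofFinite W
  obtain ⟨N, hN, hper⟩ := Cfsg.Agent.BpExc.Orbit.exists_period D.groot
  obtain ⟨f, hf⟩ : ∃ f : (I → ℤ) → ℤ, ∀ a, f a = ∑ i ∈ Finset.range N, ht (g^[i] a) := ⟨_, fun _ => rfl⟩
  have hadd : ∀ x y, f (x + y) = f x + f y := by
    intro x y
    rw [hf, hf, hf, ← Finset.sum_add_distrib]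
    refine Finset.sum_congr rfl fun i _ => ?_
    rw [iterate_map_add, RGD.ht_add]
  have hsmul : ∀ (c : ℤ) x, f (c • x) = c * f x := by
    intro c x
    rw [hf, hf, Finset.mul_sum]
    refine Finset.sum_congr rfl fun i _ => ?_
    rw [iterate_map_zsmul, RGD.ht_smul]
  have hfg : ∀ a, IsRoot cs h a → f (g a) = f a := by
    intro a ha
    rw [hf, hf]
    have h1 := Finset.sum_range_succ (fun i => ht (g^[i] a)) N
    have h2 := Finset.sum_range_succ' (fun i => ht (g^[i] a)) N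
    rw [h1, hper a ha, Function.iterate_zero, id] at h2
    have h3 := add_right_cancel h2
    rw [h3]
    refine Finset.sum_congr rfl fun i _ => ?_
    rw [Function.iterate_succ_apply]
  have hfpos : ∀ a ∈ S, 0 ≤ a → 0 < f a := by
    intro a ha h0
    rw [hf]
    refine Finset.sum_pos (fun i _ => ?_) ⟨0, Finset.mem_range.2 hN⟩
    have h1 := D.iter_pos ha h0 i
    exact RGD.ht_pos (D.root _ h1.1) h1.2
  have hfin : {x | x ∈ S ∧ 0 ≤ x}.Finite :=
    (RGD.finite_roots (cs := cs) (h := h)).subset fun x hx => D.root x hx.1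
  obtain ⟨a₀, ha₀, hmax₀⟩ := Set.exists_max_image {x | x ∈ S ∧ 0 ≤ x} f hfin ⟨b, hb, hb0⟩
  obtain ⟨a, ⟨ha, hfa⟩, hmax⟩ := Set.exists_max_image {x | (x ∈ S ∧ 0 ≤ x) ∧ f x = f a₀}
    (fun x => form cs h x x) (hfin.subset fun x hx => hx.1) ⟨a₀, ha₀, rfl⟩
  have hmaxf : ∀ x, x ∈ S ∧ 0 ≤ x → f x ≤ f a := fun x hx => by rw [hfa]; exact hmax₀ x hx
  have har := D.root a ha.1
  have hapos := hfpos a ha.1 ha.2
  have hit : ∀ i, g^[i] a ∈ S ∧ 0 ≤ g^[i] a := fun i => D.iter_pos ha.1 ha.2 i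
  have hfi : ∀ i, f (g^[i] a) = f a := by
    intro i
    induction i with
    | zero => rfl
    | succ i ih => rw [Function.iterate_succ_apply', hfg _ (D.root _ (hit i).1), ih]
  refine ⟨a, ha.1, ha.2, ⟨N, hN, hper a har⟩, ?_, ?_⟩
  · intro i j _ m n hm hn hr
    have hi := hit i
    have hj := hit j
    have e : m • g^[i] a + n • g^[j] a = (m : ℤ) • g^[i] a + (n : ℤ) • g^[j] a := by
      rw [natCast_zsmul, natCast_zsmul]
    rw [e] at hr
    have h1 : (m : ℤ) • g^[i] a + (n : ℤ) • g^[j] a ∈ S ∧ 0 ≤ (m : ℤ) • g^[i] a + (n : ℤ) • g^[j] a := by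
      refine ⟨D.comb _ hi.1 _ hj.1 _ _ hr, ?_⟩
      exact add_nonneg (smul_nonneg (Int.natCast_nonneg m) hi.2) (smul_nonneg (Int.natCast_nonneg n) hj.2)
    have h2 := hmaxf _ h1
    rw [hadd, hsmul, hsmul, hfi, hfi] at h2
    have hm' : (1 : ℤ) ≤ m := by exact_mod_cast hm
    have hn' : (1 : ℤ) ≤ n := by exact_mod_cast hn
    nlinarith only [hapos, hm, hn, h2]
  · intro i hi
    obtain ⟨c, hc⟩ : ∃ c, c = g^[i] a := ⟨_, rfl⟩
    have hcP : c ∈ S ∧ 0 ≤ c := by rw [hc]; exact hit i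
    have hfc : f c = f a := by rw [hc, hfi]
    rw [← hc] at hi ⊢
    have hcr := D.root c hcP.1
    obtain ⟨e, he⟩ : ∃ e, e = cpr cs h c a := ⟨_, rfl⟩
    have hzr : IsRoot cs h (c - e • a) := by rw [he]; exact isRoot_refl cs h hcr har
    have hzS : c - e • a ∈ S := by
      have h1 := D.comb c hcP.1 a ha.1 1 (-e)
      rw [one_smul, neg_smul, ← sub_eq_add_neg] at h1
      exact h1 hzr
    have hfz : f (c - e • a) = (1 - e) * f a := by
      have h1 : c - e • a = c + (-e) • a := by rw [neg_smul, sub_eq_add_neg]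
      rw [h1, hadd, hsmul, hfc]; ring
    rw [← he]
    rcases lt_trichotomy e 0 with hneg | h0 | hpos
    · exfalso
      have h1 : c - e • a ∈ S ∧ 0 ≤ c - e • a := by
        have e1 : c - e • a = c + (-e) • a := by rw [neg_smul, sub_eq_add_neg]
        refine ⟨hzS, ?_⟩
        rw [e1]
        exact add_nonneg hcP.2 (smul_nonneg (by omega) ha.2)
      have h2 := hmaxf _ h1
      rw [hfz] at h2
      nlinarith only [hapos, hneg, h2]
    · exact h0
    · exfalso
      -- `e = 1`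
      have h1 := hmax c ⟨hcP, hfc.trans hfa⟩
      have h1 : form cs h c c ≤ form cs h a a := h1
      have h2 : 0 < form cs h (c - a) (c - a) := form_pos cs h (sub_ne_zero.2 hi)
      have h3 := two_form_cpr cs h c har
      rw [← he] at h3
      rw [form_sub_left, form_sub_right, form_sub_right, form_comm cs h a c] at h2
      have h4 : 0 < form cs h a a := form_pos cs h har.ne_zero
      have h5 : e = 1 := by
        have h6 : e < 2 := by
          by_contra hcon
          have h7 : 2 ≤ e := not_lt.1 hcon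
          nlinarith
        omega
      rw [h5, sub_self, zero_mul] at hfz
      rw [h5] at hzr hzS
      rcases hzr.pos_or_neg with h6 | h6
      · have := hfpos _ hzS h6
        omega
      · have h7 := hfpos _ (D.neg hzS) (neg_nonneg.2 h6)
        have h8 := hsmul (-1) (c - (1 : ℤ) • a)
        rw [neg_one_smul] at h8
        rw [h8] at h7
        omega

omit D in
/-- If `b` is orthogonal to the root `a` and no positive combination of `a` and `b` is a root, then no `m b - n a` is. -/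
theorem not_root [Finite W] {a b : I → ℤ} (ha : IsRoot cs h a) (hab : cpr cs h b a = 0)
    (hsum : ∀ m n : ℕ, 0 < m → 0 < n → ¬ IsRoot cs h (m • a + n • b)) {m n : ℕ} (hm : 0 < m) (hn : 0 < n) :
    ¬ IsRoot cs h (m • (-a) + n • b) := by
  intro hr
  have h1 := isRoot_refl cs h hr ha
  have h2 : cpr cs h (m • (-a) + n • b) a = -(2 * (m : ℤ)) := by
    have e1 : m • (-a) + n • b = (-(m : ℤ)) • a + (n : ℤ) • b := by
      rw [neg_smul, natCast_zsmul, natCast_zsmul, smul_neg]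
    rw [e1, cpr_add cs h _ _ ha, cpr_smul cs h _ _ ha, cpr_smul cs h _ _ ha, hab, cpr_self cs h ha]
    ring
  rw [h2] at h1
  apply hsum m n hm hn
  have e2 : m • (-a) + n • b - (-(2 * (m : ℤ))) • a = m • a + n • b := by
    rw [neg_smul, mul_smul, two_smul, natCast_zsmul, smul_neg]
    abel
  rwa [e2] at h1

end Cfsg.Agent.H238.RootOrb
end

-- part: H238/ExcCore
section
/-!
# Perfect groups in the centralisers of toral elements (helper238)

`D.group k`, `k` algebraically closed and locally finite of characteristic `r`, `t` toral, `τ` a frame automorphism with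
`IsFrob r e τ`, `e > 0`, `τ t = t`, preserving the positive roots of `Sx t`.

* `exists_sl2` : the homomorphisms `SL₂(k) →* D.group k` of the roots;
* `core_perfect` : if `Sx t ≠ ∅` and `4 ≤ r ^ e`, then `fixC τ t` has a non-trivial perfect subgroup;
* `core_one` : if `Sx t ≠ ∅` then `fixC τ t` has a non-trivial `r`-element;
* `core_nonempty` : if `t = ⁅x, y⁆ ≠ 1` with `x, y, h` in the centraliser of `t`, `h` inverting `x` and `y`, then
  `Sx t ≠ ∅`.
-/

set_option autoImplicit false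
set_option linter.unusedSectionVars false

namespace Cfsg.Agent.H238.ExcCore

open CoxeterSystem Cfsg Cfsg.Lie Cfsg.Lie.ChevalleyDatum
open Cfsg.Agent.ChevalleyStructure Cfsg.Agent.ChevalleyStructure.Elts Cfsg.Agent.ChevalleyStructure.CoxeterGeom
  Cfsg.Agent.ChevalleyStructure.CoxeterGeomTypes Cfsg.Agent.ChevalleyStructure.NPerm
open Cfsg.Agent.Tits.Roots Cfsg.Agent.Tits.Core Cfsg.Agent.Nodes Cfsg.Agent.Nodes.Reps Cfsg.Agent.Nodes.BNOf
  Cfsg.Agent.Nodes.RGDChev Cfsg.Agent.Nodes.Bruhat Cfsg.Agent.Nodes.NormalForm Cfsg.Agent.Nodes.Coroot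
open Cfsg.Agent.KFacts.RgdField Cfsg.Agent.KFacts.RgdChevCoord
open Cfsg.Agent.BpExc Cfsg.Agent.BpExc.TorCent Cfsg.Agent.BpExc.TorChev Cfsg.Agent.BpExc.Tow
  Cfsg.Agent.BpExc.TowChev Cfsg.Agent.BpExc.Fr Cfsg.Agent.BpExc.Pair Cfsg.Agent.BpExc.LangFr Cfsg.Agent.GpExc.Field
  Cfsg.Agent.BpExc.NInst
open scoped commutatorElement

universe u

variable {D : ChevalleyDatum} {l : ℕ} {M : CoxeterMatrix (Fin l)} (hp : IsType D l M) {k : Type u} [Field k]
  {W : Type*} [Group W] (cs : CoxeterSystem M W)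

include hp cs

theorem xc_zero {a : Fin l → ℤ} (ha : IsRoot cs hp.isCartan a) : xc hp a (0 : k) = 1 := by
  obtain ⟨r, hr, rfl⟩ := (isRoot_iff hp cs a).1 ha
  apply Subtype.ext
  rw [coe_xc hp hr, xG_zero]
  rfl

theorem mem_XX_iff {a : Fin l → ℤ} (ha : IsRoot cs hp.isCartan a) {y : ↥(D.group k)} :
    y ∈ XX D l k a ↔ ∃ t : k, y = xc hp a t := by
  obtain ⟨r, hr, rfl⟩ := (isRoot_iff hp cs a).1 ha
  exact HX.mem_XX_xc hp hr

/-- **The `SL₂` of a root.** -/
theorem exists_sl2 {a : Fin l → ℤ} (ha : IsRoot cs hp.isCartan a) :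
    ∃ φ : Matrix.SpecialLinearGroup (Fin 2) k →* ↥(D.group k), (∀ s, φ (SL2Key.U s) = xc hp a s) ∧
      (∀ s, φ (SL2Key.V s) = xc hp (-a) s) ∧ φ.range ≤ XX D l k a ⊔ XX D l k (-a) := by
  obtain ⟨r, hr, rfl⟩ := (isRoot_iff hp cs a).1 ha
  obtain ⟨φ, h1, h2⟩ := Cfsg.Agent.S1030.result (F := k) D hp.inList r hr
  have hnr : D.neg r < D.nroots := neg_lt hp.inList hr
  have hle : D.rootSubgroup k r ⊔ D.rootSubgroup k (D.neg r) ≤
      (XX D l k (vec D l r) ⊔ XX D l k (-vec D l r)).map (D.group k).subtype := by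
    rw [Subgroup.map_sup]
    refine sup_le_sup ?_ ?_
    · intro y hy
      obtain ⟨t, rfl⟩ := (mem_rootSubgroup_iff hp.inList r y).1 hy
      exact ⟨xc hp (vec D l r) t, (HX.mem_XX_xc hp hr).2 ⟨t, rfl⟩, coe_xc hp hr t⟩
    · intro y hy
      obtain ⟨t, rfl⟩ := (mem_rootSubgroup_iff hp.inList _ y).1 hy
      rw [← vec_neg hp hr]
      exact ⟨xc hp (vec D l (D.neg r)) t, (HX.mem_XX_xc hp hnr).2 ⟨t, rfl⟩, coe_xc hp hnr t⟩
  have hmem : ∀ g, φ g ∈ D.group k := by
    intro g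
    have h3 : φ g ∈ φ.range := ⟨g, rfl⟩
    rw [h1] at h3
    obtain ⟨y, -, e⟩ := hle h3
    rw [← e]
    exact y.2
  refine ⟨φ.codRestrict (D.group k) hmem, fun s => ?_, fun s => ?_, ?_⟩
  · apply Subtype.ext
    rw [coe_xc hp hr]
    apply Units.ext
    exact (h2 (SL2Key.U s) s).1 rfl
  · apply Subtype.ext
    rw [← vec_neg hp hr, coe_xc hp hnr]
    apply Units.ext
    exact (h2 (SL2Key.V s) s).2 rfl
  · rintro _ ⟨g, rfl⟩
    have h3 : φ g ∈ φ.range := ⟨g, rfl⟩
    rw [h1] at h3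
    obtain ⟨y, hy, e⟩ := hle h3
    have h4 : (φ.codRestrict (D.group k) hmem) g = y := Subtype.ext e.symm
    rw [h4]
    exact hy

theorem inter (hk : LocFin k) (r : ℕ) [Fact r.Prime] [CharP k r] {a : Fin l → ℤ} (ha : IsRoot cs hp.isCartan a)
    (h0 : 0 ≤ a) {s t : k} (e : xc hp a s = xc hp (-a) t) : s = 0 ∧ t = 0 := by
  have := finite_W hp cs
  have H := tow (k := k) hp cs hk r
  have h1 : xc hp a s ∈ XX D l k a := (mem_XX_iff hp cs ha).2 ⟨s, rfl⟩
  have h2 : xc hp a s ∈ XX D l k (-a) := by rw [e]; exact (mem_XX_iff hp cs ha.neg).2 ⟨t, rfl⟩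
  have h3 : xc hp a s = 1 := by
    refine Cfsg.Agent.BpExc.Orbit.eq_one_of_pos_neg H ?_ ?_
    · rw [XL_eq hp hk]
      exact RGD.le_Sup (S := RGD.Pos cs hp.isCartan) ⟨ha, h0⟩ h1
    · rw [XL_eq hp hk]
      exact RGD.le_Sup (S := Cfsg.Agent.Nodes.OppDec.Neg cs hp.isCartan) ⟨ha.neg, neg_nonpos.2 h0⟩ h2
  have key : ∀ {b : Fin l → ℤ} (hb : IsRoot cs hp.isCartan b) {u : k}, xc hp b u = 1 → u = 0 := by
    intro b hb u hu
    rw [← xc_zero (k := k) hp cs hb] at hu
    obtain ⟨r, hr, rfl⟩ := (isRoot_iff hp cs b).1 hb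
    exact xc_inj hp hr hu
  exact ⟨key ha h3, key ha.neg (by rw [← e, h3])⟩

theorem commute_of_sum {a b : Fin l → ℤ} (ha : IsRoot cs hp.isCartan a) (hb : IsRoot cs hp.isCartan b) (hab : a ≠ b)
    (hab' : a ≠ -b) (hsum : ∀ m n : ℕ, 0 < m → 0 < n → ¬ IsRoot cs hp.isCartan (m • a + n • b)) {x y : ↥(D.group k)}
    (hx : x ∈ XX D l k a) (hy : y ∈ XX D l k b) : Commute x y := by
  have h1 := CommZ.comm_mem_Z hp cs ha hb hab hab' hx hy
  have h2 : CommZ.combZ cs hp a b = ∅ := by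
    rw [Set.eq_empty_iff_forall_notMem]
    rintro z ⟨hz, i, j, hi, hj, rfl⟩
    exact hsum i j hi hj hz
  rw [h2] at h1
  have h3 : RGD.Sup (XX D l k) ∅ = ⊥ := by
    rw [eq_bot_iff]
    exact RGD.Sup_le fun a ha => absurd ha (Set.notMem_empty a)
  rw [h3, Subgroup.mem_bot, commutatorElement_eq_one_iff_commute] at h1
  exact h1

/-- Orthogonal roots without positive combinations: the rank one groups commute. -/
theorem commute_sup {a b : Fin l → ℤ} (ha : IsRoot cs hp.isCartan a) (hb : IsRoot cs hp.isCartan b) (hab : a ≠ b)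
    (hab' : a ≠ -b) (hcpr : cpr cs hp.isCartan b a = 0)
    (hsum : ∀ m n : ℕ, 0 < m → 0 < n → ¬ IsRoot cs hp.isCartan (m • a + n • b)) {x y : ↥(D.group k)}
    (hx : x ∈ XX D l k a ⊔ XX D l k (-a)) (hy : y ∈ XX D l k b ⊔ XX D l k (-b)) : Commute x y := by
  have := finite_W hp cs
  have h1 : ∀ m n : ℕ, 0 < m → 0 < n → ¬ IsRoot cs hp.isCartan (m • (-a) + n • b) :=
    fun m n hm hn => RootOrb.not_root ha hcpr hsum hm hn
  have h2 : ∀ m n : ℕ, 0 < m → 0 < n → ¬ IsRoot cs hp.isCartan (m • a + n • (-b)) := by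
    intro m n hm hn hr
    apply h1 m n hm hn
    have e : m • (-a) + n • b = -(m • a + n • (-b)) := by
      rw [neg_add, smul_neg, smul_neg, _root_.neg_neg]
    rw [e]
    exact hr.neg
  have h3 : ∀ m n : ℕ, 0 < m → 0 < n → ¬ IsRoot cs hp.isCartan (m • (-a) + n • (-b)) := by
    intro m n hm hn hr
    apply hsum m n hm hn
    have e : m • a + n • b = -(m • (-a) + n • (-b)) := by
      rw [neg_add, smul_neg, smul_neg, _root_.neg_neg, _root_.neg_neg]
    rw [e]
    exact hr.neg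
  have hne1 : -a ≠ b := fun e => hab' (by rw [← e, _root_.neg_neg])
  have hne2 : -a ≠ -b := fun e => hab (neg_injective e)
  have hne3 : -a ≠ - -b := by rw [_root_.neg_neg]; exact hne1
  have hne4 : a ≠ - -b := by rw [_root_.neg_neg]; exact hab
  have key : XX D l k a ⊔ XX D l k (-a) ≤ Subgroup.centralizer ((XX D l k b ⊔ XX D l k (-b) : Subgroup ↥(D.group k)) : Set ↥(D.group k)) := by
    have hle : ∀ c : Fin l → ℤ, (∀ x ∈ XX D l k c, ∀ y ∈ XX D l k b, Commute x y) →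
        (∀ x ∈ XX D l k c, ∀ y ∈ XX D l k (-b), Commute x y) →
        XX D l k c ≤ Subgroup.centralizer ((XX D l k b ⊔ XX D l k (-b) : Subgroup ↥(D.group k)) : Set ↥(D.group k)) := by
      intro c hc1 hc2
      rw [Subgroup.le_centralizer_iff]
      refine sup_le ?_ ?_
      · intro y hy
        rw [Subgroup.mem_centralizer_iff]
        intro x hx
        exact (hc1 x hx y hy).eq
      · intro y hy
        rw [Subgroup.mem_centralizer_iff]
        intro x hx
        exact (hc2 x hx y hy).eq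
    refine sup_le (hle a ?_ ?_) (hle (-a) ?_ ?_)
    · exact fun x hx y hy => commute_of_sum hp cs ha hb hab hab' hsum hx hy
    · exact fun x hx y hy => commute_of_sum hp cs ha hb.neg hab' hne4 h2 hx hy
    · exact fun x hx y hy => commute_of_sum hp cs ha.neg hb hne1 hne2 h1 hx hy
    · exact fun x hx y hy => commute_of_sum hp cs ha.neg hb.neg hne2 hne3 h3 hx hy
  have h4 := Subgroup.mem_centralizer_iff.1 (key hx) y hy
  exact h4.symm

/-- The roots centralising a toral element. -/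
theorem os (hk : LocFin k) (r : ℕ) [Fact r.Prime] [CharP k r] {t : ↥(D.group k)} (ht : t ∈ TT D k)
    {τ : MulAut ↥(D.group k)} {g : (Fin l → ℤ) ≃+ (Fin l → ℤ)}
    (F : Fr cs hp.isCartan (TT D k) (XX D l k) τ g) (hτt : τ t = t)
    (hpos : ∀ a ∈ Sx cs hp.isCartan (ch hp) t, 0 ≤ a → 0 ≤ g a) :
    RootOrb.OS cs hp.isCartan (Sx cs hp.isCartan (ch hp) t) g where
  root := fun a ha => ha.1
  groot := F.root
  comb := by
    intro a ha b hb i j hr
    refine ⟨hr, ?_⟩
    obtain ⟨φ, h0, hadd, hφ⟩ := chAddL (k := k) hp cs hk r t ht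
    let K : AddSubgroup (Fin l → ℤ) :=
      { carrier := {x | φ x = 1}
        add_mem' := by
          intro x y hx hy
          show φ (x + y) = 1
          rw [hadd, show φ x = 1 from hx, show φ y = 1 from hy, one_mul]
        zero_mem' := h0
        neg_mem' := by
          intro x hx
          show φ (-x) = 1
          have h1 := hadd x (-x)
          rw [add_neg_cancel, h0, show φ x = 1 from hx, one_mul] at h1
          exact h1.symm }
    have h1 : i • a + j • b ∈ K := by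
      refine K.add_mem (K.zsmul_mem ?_ i) (K.zsmul_mem ?_ j)
      · show φ a = 1
        rw [← hφ a ha.1]; exact ha.2
      · show φ b = 1
        rw [← hφ b hb.1]; exact hb.2
    rw [hφ _ hr]
    exact h1
  gS := by
    intro a ha
    have C := coordsL (k := k) hp cs hk r
    have hTL := TL_eq (k := k) hp hk
    have hXL := XL_eq (k := k) hp hk
    have F' : Fr cs hp.isCartan (TL (Tj hp (k := k))) (XL (Xj hp (k := k))) τ g := by rw [hTL, hXL]; exact F
    have C' : Coords cs hp.isCartan (TL (Tj hp (k := k))) (nc hp k) (XL (Xj hp (k := k))) (xc hp) (ch hp) := by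
      rw [hTL, hXL]; exact C
    have ht' : t ∈ TL (Tj hp (k := k)) := by rw [hTL]; exact ht
    exact (F'.mem_Sx C' ht' hτt a).2 ha
  gpos := hpos

theorem map_sup_pow {τ : MulAut ↥(D.group k)} {g : (Fin l → ℤ) ≃+ (Fin l → ℤ)}
    (F : Fr cs hp.isCartan (TT D k) (XX D l k) τ g) {a : Fin l → ℤ} (ha : IsRoot cs hp.isCartan a) (i : ℕ)
    {y : ↥(D.group k)} (hy : y ∈ XX D l k a ⊔ XX D l k (-a)) :
    (τ ^ i) y ∈ XX D l k (g^[i] a) ⊔ XX D l k (-(g^[i] a)) := by
  obtain ⟨g', F', hg'⟩ := F.pow i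
  have h1 := F'.map_eq ha
  have h2 := F'.map_eq ha.neg
  rw [map_neg] at h2
  rw [hg'] at h1 h2
  rw [← h1, ← h2, ← Subgroup.map_sup]
  exact ⟨y, hy, rfl⟩

/-- **The perfect group in the centraliser.** -/
theorem core_perfect [IsAlgClosed k] (hk : LocFin k) {r e : ℕ} [Fact r.Prime] [CharP k r] (h4 : 4 ≤ r ^ e)
    {t : ↥(D.group k)} (ht : t ∈ TT D k) {τ : MulAut ↥(D.group k)} (hτ : IsFrob r e τ)
    {g : (Fin l → ℤ) ≃+ (Fin l → ℤ)} (F : Fr cs hp.isCartan (TT D k) (XX D l k) τ g) (hτt : τ t = t)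
    (hpos : ∀ a ∈ Sx cs hp.isCartan (ch hp) t, 0 ≤ a → 0 ≤ g a)
    (hne : (Sx cs hp.isCartan (ch hp) t).Nonempty) :
    ∃ H : Subgroup ↥(D.group k), H ≤ fixC τ t ∧ ⁅H, H⁆ = H ∧ H ≠ ⊥ := by
  have := finite_W hp cs
  have O := os hp cs hk r ht F hτt hpos
  have C := coordsL (k := k) hp cs hk r
  obtain ⟨b, hb, hb0⟩ : ∃ b ∈ Sx cs hp.isCartan (ch hp) t, 0 ≤ b := by
    obtain ⟨b, hb⟩ := hne
    rcases hb.1.pos_or_neg with h0 | h0
    · exact ⟨b, hb, h0⟩
    · exact ⟨-b, O.neg hb, neg_nonneg.2 h0⟩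
  obtain ⟨a, haS, ha0, ⟨N, hN, hNa⟩, hsum, hcpr⟩ := O.exists_root hb hb0
  have ha : IsRoot cs hp.isCartan a := haS.1
  classical
  have hex : ∃ m, 0 < m ∧ g^[m] a = a := ⟨N, hN, hNa⟩
  obtain ⟨m, hm⟩ : ∃ m, m = Nat.find hex := ⟨_, rfl⟩
  obtain ⟨hm0, hma⟩ : 0 < m ∧ g^[m] a = a := by rw [hm]; exact Nat.find_spec hex
  have hmin : ∀ i, 0 < i → i < m → g^[i] a ≠ a := fun i h0 hi hcon => by
    rw [hm] at hi
    exact Nat.find_min hex hi ⟨h0, hcon⟩
  obtain ⟨φ, hφU, hφV, hφr⟩ := exists_sl2 (k := k) hp cs ha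
  have hφ : ∀ s t : k, φ (SL2Key.U s) = φ (SL2Key.V t) → s = 0 ∧ t = 0 := by
    intro s t e
    rw [hφU, hφV] at e
    exact inter hp cs hk r ha ha0 e
  obtain ⟨g', F', hg'⟩ := F.pow m
  obtain ⟨c, hc, hcf⟩ := HX.fr_xc hp cs (hτ.pow m) F' ha
  obtain ⟨c', -, hcf'⟩ := HX.fr_xc hp cs (hτ.pow m) F' ha.neg
  rw [map_neg, hg', hma] at hcf'
  rw [hg', hma] at hcf
  have h4' : 4 ≤ r ^ (m * e) := h4.trans (Nat.pow_le_pow_right (Fact.out : r.Prime).pos (Nat.le_mul_of_pos_left e hm0))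
  obtain ⟨M, hM1, hM2, hM3, s, hs, hsM⟩ := SL2Key.exists_perfect φ hφ h4' (τ ^ m) hc
    (fun s => by rw [hφU, hφU]; exact hcf s) (fun s => by rw [hφV, hφV]; exact hcf' s)
  have hinf : Infinite k := IsAlgClosed.instInfinite
  have hit : ∀ i, g^[i] a ∈ Sx cs hp.isCartan (ch hp) t ∧ 0 ≤ g^[i] a := fun i => O.iter_pos haS ha0 i
  have hMK : ∀ y ∈ M, y ∈ XX D l k a ⊔ XX D l k (-a) := fun y hy => hφr (hM2 hy)
  have hVK : φ (SL2Key.V 1) ∈ XX D l k a ⊔ XX D l k (-a) := hφr ⟨_, rfl⟩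
  have hcom : ∀ i, 0 < i → i < m → ∀ y ∈ XX D l k a ⊔ XX D l k (-a), ∀ y' ∈ XX D l k a ⊔ XX D l k (-a),
      Commute y ((τ ^ i) y') := by
    intro i hi0 him y hy y' hy'
    have hne' := hmin i hi0 him
    refine commute_sup hp cs ha (hit i).1.1 (Ne.symm hne') (fun hcon => ?_) (hcpr i hne') (fun m' n' hm' hn' => ?_) hy
      (map_sup_pow hp cs F ha i hy')
    · refine ha.not_pos_neg ha0 ?_
      rw [hcon]
      exact neg_nonpos.2 (hit i).2
    · exact hsum 0 i (Ne.symm hne') m' n' hm' hn'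
  obtain ⟨H, hH1, hH2, hH3, hH4⟩ := OrbitProd.exists_perfect τ hm0 hM3 hM1
    (fun i h0 hi y hy y' hy' => hcom i h0 hi y (hMK y hy) y' (hMK y' hy')) hsM
    (SL2Key.not_commute φ hφ hs one_ne_zero)
    (fun i h0 hi => (hcom i h0 hi _ hVK _ (hMK _ hsM)).symm)
  refine ⟨H, fun y hy => ⟨hH1 y hy, ?_⟩, hH2, hH3⟩
  have h5 : H ≤ Subgroup.centralizer {t} := by
    refine hH4 _ fun i _ y hy => ?_
    have h6 : XX D l k a ⊔ XX D l k (-a) ≤ Subgroup.centralizer {t} :=
      sup_le (X_le_centralizer C ht haS) (X_le_centralizer C ht (O.neg haS))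
    have h7 := Subgroup.mem_centralizer_singleton_iff.1 (h6 (hMK y hy))
    have h8 : ∀ i : ℕ, (τ ^ i) t = t := by
      intro i
      induction i with
      | zero => rfl
      | succ i ih => rw [pow_succ, MulAut.mul_apply, hτt, ih]
    rw [Subgroup.mem_centralizer_singleton_iff]
    have h9 := congrArg (τ ^ i) h7
    rwa [map_mul, map_mul, h8] at h9
  exact Subgroup.mem_centralizer_singleton_iff.1 (h5 hy)

/-- **The element of the characteristic in the centraliser.** -/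
theorem core_one [IsAlgClosed k] (hk : LocFin k) {r e : ℕ} [Fact r.Prime] [CharP k r] (he : 0 < e)
    {t : ↥(D.group k)} (ht : t ∈ TT D k) {τ : MulAut ↥(D.group k)} (hτ : IsFrob r e τ)
    {g : (Fin l → ℤ) ≃+ (Fin l → ℤ)} (F : Fr cs hp.isCartan (TT D k) (XX D l k) τ g) (hτt : τ t = t)
    (hpos : ∀ a ∈ Sx cs hp.isCartan (ch hp) t, 0 ≤ a → 0 ≤ g a)
    (hne : (Sx cs hp.isCartan (ch hp) t).Nonempty) :
    ∃ u ∈ fixC τ t, u ≠ 1 ∧ u ^ r = 1 := by
  have := finite_W hp cs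
  have O := os hp cs hk r ht F hτt hpos
  have C := coordsL (k := k) hp cs hk r
  obtain ⟨b, hb, hb0⟩ : ∃ b ∈ Sx cs hp.isCartan (ch hp) t, 0 ≤ b := by
    obtain ⟨b, hb⟩ := hne
    rcases hb.1.pos_or_neg with h0 | h0
    · exact ⟨b, hb, h0⟩
    · exact ⟨-b, O.neg hb, neg_nonneg.2 h0⟩
  obtain ⟨a, haS, ha0, ⟨N, hN, hNa⟩, hsum, hcpr⟩ := O.exists_root hb hb0
  have ha : IsRoot cs hp.isCartan a := haS.1
  classical
  have hex : ∃ m, 0 < m ∧ g^[m] a = a := ⟨N, hN, hNa⟩
  obtain ⟨m, hm⟩ : ∃ m, m = Nat.find hex := ⟨_, rfl⟩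
  obtain ⟨hm0, hma⟩ : 0 < m ∧ g^[m] a = a := by rw [hm]; exact Nat.find_spec hex
  have hmin : ∀ i, 0 < i → i < m → g^[i] a ≠ a := fun i h0 hi hcon => by
    rw [hm] at hi
    exact Nat.find_min hex hi ⟨h0, hcon⟩
  obtain ⟨φ, hφU, hφV, hφr⟩ := exists_sl2 (k := k) hp cs ha
  have hφ : ∀ s t : k, φ (SL2Key.U s) = φ (SL2Key.V t) → s = 0 ∧ t = 0 := by
    intro s t e
    rw [hφU, hφV] at e
    exact inter hp cs hk r ha ha0 e
  have hinf : Infinite k := IsAlgClosed.instInfinite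
  have hit : ∀ i, g^[i] a ∈ Sx cs hp.isCartan (ch hp) t ∧ 0 ≤ g^[i] a := fun i => O.iter_pos haS ha0 i
  have hVK : φ (SL2Key.V 1) ∈ XX D l k a ⊔ XX D l k (-a) := hφr ⟨_, rfl⟩
  have hcom : ∀ i, 0 < i → i < m → ∀ y ∈ XX D l k a ⊔ XX D l k (-a), ∀ y' ∈ XX D l k a ⊔ XX D l k (-a),
      Commute y ((τ ^ i) y') := by
    intro i hi0 him y hy y' hy'
    have hne' := hmin i hi0 him
    refine commute_sup hp cs ha (hit i).1.1 (Ne.symm hne') (fun hcon => ?_) (hcpr i hne') (fun m' n' hm' hn' => ?_) hy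
      (map_sup_pow hp cs F ha i hy')
    · refine ha.not_pos_neg ha0 ?_
      rw [hcon]
      exact neg_nonpos.2 (hit i).2
    · exact hsum 0 i (Ne.symm hne') m' n' hm' hn'
  obtain ⟨y, hy, hy1, hyf⟩ := HX.exists_fixed hp cs he hτ F ha
  obtain ⟨s, rfl⟩ := (mem_XX_iff hp cs ha).1 hy
  have hs : s ≠ 0 := by
    rintro rfl
    exact hy1 (xc_zero hp cs ha)
  have hyK : xc hp a s ∈ XX D l k a ⊔ XX D l k (-a) := Subgroup.mem_sup_left hy
  have hpow : ∀ n : ℕ, xc hp a s ^ n = xc hp a ((n : k) * s) := by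
    intro n
    have h1 : SL2Key.U s ^ n = SL2Key.U ((n : k) * s) := by
      induction n with
      | zero => rw [pow_zero, Nat.cast_zero, zero_mul, SL2Key.U_zero]
      | succ n ih => rw [pow_succ, ih, ← SL2Key.U_add, Nat.cast_succ, add_mul, one_mul]
    rw [← hφU, ← map_pow, h1, hφU]
  refine ⟨OrbitProd.op τ (xc hp a s) m, ⟨?_, ?_⟩, ?_, ?_⟩
  · exact OrbitProd.op_fixed hm0 (hyf m hma) fun i h0 hi => hcom i h0 hi _ hyK _ hyK
  · have h5 : OrbitProd.op τ (xc hp a s) m ∈ Subgroup.centralizer {t} := by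
      refine OrbitProd.op_mem fun i _ => ?_
      have h7 := Subgroup.mem_centralizer_singleton_iff.1 (X_le_centralizer C ht haS hy)
      have h8 : ∀ i : ℕ, (τ ^ i) t = t := by
        intro i
        induction i with
        | zero => rfl
        | succ i ih => rw [pow_succ, MulAut.mul_apply, hτt, ih]
      rw [Subgroup.mem_centralizer_singleton_iff]
      have h9 := congrArg (τ ^ i) h7
      rwa [map_mul, map_mul, h8] at h9
    exact Subgroup.mem_centralizer_singleton_iff.1 h5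
  · refine OrbitProd.op_ne_one hm0 (v := φ (SL2Key.V 1)) ?_ (fun i h0 hi => (hcom i h0 hi _ hVK _ hyK).symm)
    rw [← hφU]
    exact SL2Key.not_commute φ hφ hs one_ne_zero
  · rw [← OrbitProd.op_pow (fun i h0 hi => hcom i h0 hi _ hyK _ hyK), hpow, CharP.cast_eq_zero, zero_mul,
      xc_zero hp cs ha, OrbitProd.op_one]

omit hp cs in
theorem conj_pow_odd {Y : Type*} [Group Y] {h x : Y} (hx : h * x * h⁻¹ = x⁻¹) {b : ℕ} (hb : Odd b) :
    h ^ b * x * (h ^ b)⁻¹ = x⁻¹ := by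
  obtain ⟨c, rfl⟩ := hb
  have h2 : h ^ 2 * x * (h ^ 2)⁻¹ = x := by
    have : h ^ 2 * x * (h ^ 2)⁻¹ = h * (h * x * h⁻¹) * h⁻¹ := by rw [sq]; group
    rw [this, hx]
    have h3 : h * x⁻¹ * h⁻¹ = (h * x * h⁻¹)⁻¹ := by group
    rw [h3, hx, inv_inv]
  have h4 : ∀ c : ℕ, (h ^ 2) ^ c * x * ((h ^ 2) ^ c)⁻¹ = x := by
    intro c
    induction c with
    | zero => simp
    | succ c ih =>
      have : (h ^ 2) ^ (c + 1) * x * ((h ^ 2) ^ (c + 1))⁻¹ = (h ^ 2) ^ c * (h ^ 2 * x * (h ^ 2)⁻¹) * ((h ^ 2) ^ c)⁻¹ := by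
        rw [pow_succ (h ^ 2)]; group
      rw [this, h2, ih]
  have h5 : h ^ (2 * c + 1) * x * (h ^ (2 * c + 1))⁻¹ = (h ^ 2) ^ c * (h * x * h⁻¹) * ((h ^ 2) ^ c)⁻¹ := by
    rw [pow_succ, pow_mul]; group
  rw [h5, hx]
  have h6 : (h ^ 2) ^ c * x⁻¹ * ((h ^ 2) ^ c)⁻¹ = ((h ^ 2) ^ c * x * ((h ^ 2) ^ c)⁻¹)⁻¹ := by group
  rw [h6, h4]

/-- **The centraliser of `t` is not a torus.** -/
theorem core_nonempty (hk : LocFin k) {r : ℕ} [Fact r.Prime] [CharP k r] {p : ℕ} (hpp : p.Prime) (hp2 : p ≠ 2)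
    {t : ↥(D.group k)} (ht : t ∈ TT D k) (ht1 : t ≠ 1) (htp : t ^ p = 1) {x y h : ↥(D.group k)}
    (hx : x * t = t * x) (hy : y * t = t * y) (hh : h * t = t * h) (hxy : t = ⁅x, y⁆) (hxp : x ^ p = 1)
    (hyp : y ^ p = 1) (hf : IsOfFinOrder h) (hhx : h * x * h⁻¹ = x⁻¹) (hhy : h * y * h⁻¹ = y⁻¹) :
    (Sx cs hp.isCartan (ch hp) t).Nonempty := by
  by_contra hemp
  rw [Set.not_nonempty_iff_eq_empty] at hemp
  have := finite_W hp cs
  have H := tow (k := k) hp cs hk r
  have C := coordsL (k := k) hp cs hk r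
  have hA := chAddL (k := k) hp cs hk r
  have hG := GG_eq_top (k := k) hp cs hk
  have hTL := TL_eq (k := k) hp hk
  have hXL := XL_eq (k := k) hp hk
  have hTc := TT_comm (K := k) hp
  have C' : Coords cs hp.isCartan (TL (Tj hp (k := k))) (nc hp k) (XL (Xj hp (k := k))) (xc hp) (ch hp) := by
    rw [hTL, hXL]; exact C
  have ht' : t ∈ TL (Tj hp (k := k)) := by rw [hTL]; exact ht
  have hMM : MM cs hp.isCartan (XL (Xj hp (k := k))) (ch hp) t = ⊥ := by
    unfold MM
    rw [hemp, eq_bot_iff]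
    exact RGD.Sup_le fun a ha => absurd ha (Set.notMem_empty a)
  have hform : ∀ c : ↥(D.group k), c * t = t * c → ∃ w ∈ PP cs hp.isCartan (ch hp) t, Rp cs H.nsys w c := by
    intro c hc
    obtain ⟨m, hm, w, kk, hkk, hkt, rfl⟩ := Fr.exists_form H C' ht' ht' (c := c)
      (by rw [hG]; exact Subgroup.mem_top _) hc
    rw [hMM, Subgroup.mem_bot] at hm
    rw [hm, one_mul]
    refine ⟨w, ⟨fun a ha => ?_, fun a ha => ?_⟩, hkk⟩
    · have h1 := C'.chi_rp H.nsys hkk ha ht'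
      have h2 : kk * t * kk⁻¹ = t := by rw [hkt]; group
      rwa [h2] at h1
    · rw [hemp] at ha
      exact absurd ha (Set.notMem_empty a)
  have hchi : ∀ a, IsRoot cs hp.isCartan a → ch hp a t ^ p = 1 := by
    intro a ha
    have h0 : ch hp a (1 : ↥(D.group k)) = 1 := by
      have h1 := (C.coord a ha).chi_mul (one_mem (TT D k)) (one_mem _)
      rw [mul_one] at h1
      exact (mul_eq_left₀ ((C.coord a ha).chi_ne_zero (one_mem _))).1 h1.symm
    have h1 : ∀ m : ℕ, ch hp a (t ^ m) = ch hp a t ^ m := by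
      intro m
      induction m with
      | zero => rw [pow_zero, pow_zero, h0]
      | succ m ih => rw [pow_succ, pow_succ, (C.coord a ha).chi_mul (pow_mem ht m) ht, ih]
    rw [← h1, htp, h0]
  have hP := isPGroup_PP (cs := cs) (h := hp.isCartan) hA ht hpp hchi
  have huniq : ∀ {w w' : W} {c : ↥(D.group k)}, Rp cs H.nsys w c → Rp cs H.nsys w' c → w = w' := by
    intro w w' c h1 h2
    exact (H.normal_form_unique (one_mem _) (one_mem _) h1 h2 (one_mem _) (one_mem _) rfl).1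
  have hpow : ∀ {w : W} {c : ↥(D.group k)}, Rp cs H.nsys w c → ∀ j : ℕ, Rp cs H.nsys (w ^ j) (c ^ j) := by
    intro w c hc j
    induction j with
    | zero => rw [pow_zero, pow_zero]; exact rp_one
    | succ j ih => rw [pow_succ, pow_succ]; exact ih.mul hc
  -- the `2`-part of `h`
  obtain ⟨wh, hwh, hrh⟩ := hform h hh
  obtain ⟨a, b, hb, hab⟩ := Nat.exists_eq_two_pow_mul_odd (orderOf_pos_iff.2 hf).ne'
  have hb2 : (h ^ b) ^ 2 ^ a = 1 := by rw [← pow_mul, mul_comm, ← hab, pow_orderOf_eq_one]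
  have hw1 : wh ^ b = 1 := by
    have h1 := hpow (hpow hrh b) (2 ^ a)
    rw [hb2] at h1
    have h2 : (wh ^ b) ^ 2 ^ a = 1 := huniq h1 rp_one
    obtain ⟨j, hj⟩ := hP ⟨wh, hwh⟩
    have hj' : wh ^ p ^ j = 1 := congrArg Subtype.val hj
    have h3 : (wh ^ b) ^ p ^ j = 1 := by rw [← pow_mul, mul_comm, pow_mul, hj', one_pow]
    have h4 : orderOf (wh ^ b) ∣ Nat.gcd (2 ^ a) (p ^ j) :=
      Nat.dvd_gcd (orderOf_dvd_of_pow_eq_one h2) (orderOf_dvd_of_pow_eq_one h3)
    have h5 : Nat.gcd (2 ^ a) (p ^ j) = 1 :=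
      Nat.Coprime.pow _ _ ((Nat.coprime_primes Nat.prime_two hpp).2 (Ne.symm hp2))
    rw [h5, Nat.dvd_one, orderOf_eq_one_iff] at h4
    exact h4
  have hhT : h ^ b ∈ TT D k := by
    have h1 := hpow hrh b
    rw [hw1] at h1
    rw [← hTL]
    exact h1.mem_of_one
  have key : ∀ z : ↥(D.group k), z * t = t * z → z ^ p = 1 → h * z * h⁻¹ = z⁻¹ → z ∈ TT D k := by
    intro z hz hzp hhz
    obtain ⟨wz, -, hrz⟩ := hform z hz
    have h1 := conj_pow_odd hhz hb
    have h2 : z * (h ^ b)⁻¹ * z⁻¹ ∈ TT D k := by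
      rw [← hTL]
      exact (Subgroup.mem_normalizer_iff.1 hrz.mem_normalizer _).1 (by rw [hTL]; exact inv_mem hhT)
    have h3 : z ^ 2 ∈ TT D k := by
      have h4 : h ^ b * (z * (h ^ b)⁻¹ * z⁻¹) = (z ^ 2)⁻¹ := by
        have h5 : h ^ b * (z * (h ^ b)⁻¹ * z⁻¹) = (h ^ b * z * (h ^ b)⁻¹) * z⁻¹ := by group
        rw [h5, h1, sq]; group
      have h6 := mul_mem hhT h2
      rw [h4] at h6
      exact (inv_mem_iff).1 h6
    obtain ⟨c, hc⟩ := hpp.odd_of_ne_two hp2
    have h4 : z = (z ^ 2) ^ (c + 1) := by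
      rw [← pow_mul]
      have : 2 * (c + 1) = p + 1 := by omega
      rw [this, pow_succ, hzp, one_mul]
    rw [h4]
    exact pow_mem h3 _
  apply ht1
  rw [hxy, commutatorElement_eq_one_iff_commute]
  exact hTc x (key x hx hxp hhx) y (key y hy hyp hhy)

end Cfsg.Agent.H238.ExcCore
end

private theorem dce_9ae33fc73e5f : _root_.True := by
  try have : _root_.True := by simp only [_root_.Cfsg.Agent.H238.SL2Key.N.eq_1]
  exact _root_.True.intro
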