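import Mathlib
import Cfsg.Agent.H226.KList
import Cfsg.Agent.H833.GFiveCent
import Cfsg.Agent.SignalizersComponents.SLQuasisimple
import Cfsg.Agent.H238.Base
import Cfsg.Agent.OddHalf.D6.Cut_m3
import Cfsg.Agent.OddHalf.D9.FFour.Out_m3
import Cfsg.Agent.Lib.NormalAbelian
import Cfsg.Agent.Lib.LocalCore
import Cfsg.Agent.S0822
import Cfsg.Agent.S0713
import Cfsg.Agent.Involutions.IndexFive
import Cfsg.Prelude.Def_Solvable
import Cfsg.Agent.H226.ParG
import Cfsg.Agent.S2119
import Cfsg.Agent.S2121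
import Cfsg.Agent.H5.Piv.Main
import Cfsg.Agent.H237.OSevenG
import Cfsg.Agent.Lib.FastPerm
import Cfsg.Agent.FastGrp
import Cfsg.Agent.Prune
set_option linter.all false
prune_inst 0x7f00000000000000000000000000000000000000000000000000000000000000000000000000000000000000000000000000000000000000000000000000000000000000000000000000000000000000003fffffffffffffffffffffffffffbeffbdffffffff
open scoped Cfsg.Agent.FastGrp

-- part: H238/SolCent
section
/-!
# Solvable centralisers of the central elements of order `p` of a Sylow `p`-subgroup (helper238)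

* `SC p L` : every element of order `p` centralised by a Sylow `p`-subgroup of `L` has solvable centraliser;
* `SC.congr` : transport; `SC.of_one` : one Sylow subgroup is enough; `SC.of_exists` : one element is enough if the elements
  of order `p` centralised by `P` are conjugate up to powers.
-/

set_option autoImplicit false

namespace Cfsg.Agent.H238.SolCent

open Subgroup

universe u v

/-- every element of order `p` centralised by a Sylow `p`-subgroup has solvable centraliser -/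
def SC (p : ℕ) (L : Type u) [Group L] : Prop :=
  ∀ (P : Sylow p L) (z : L), orderOf z = p → (∀ x ∈ P, x * z = z * x) →
    Group.IsSolvable ↥(centralizer ({z} : Set L))

theorem solvable_conj {L : Type u} [Group L] {z w g : L} (h : g * z * g⁻¹ = w)
    (hz : Group.IsSolvable ↥(centralizer ({z} : Set L))) : Group.IsSolvable ↥(centralizer ({w} : Set L)) := by
  subst h
  let f : ↥(centralizer ({g * z * g⁻¹} : Set L)) →* ↥(centralizer ({z} : Set L)) :=
    { toFun := fun y => ⟨g⁻¹ * y * g, by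
        have h1 := mem_centralizer_singleton_iff.1 y.2
        rw [mem_centralizer_singleton_iff]
        calc g⁻¹ * (y : L) * g * z = g⁻¹ * ((y : L) * (g * z * g⁻¹)) * g := by group
          _ = g⁻¹ * ((g * z * g⁻¹) * (y : L)) * g := by rw [h1]
          _ = z * (g⁻¹ * (y : L) * g) := by group⟩
      map_one' := by apply Subtype.ext; show g⁻¹ * 1 * g = 1; group
      map_mul' := by
        intro a b
        apply Subtype.ext
        show g⁻¹ * ((a : L) * (b : L)) * g = g⁻¹ * (a : L) * g * (g⁻¹ * (b : L) * g)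
        group }
  refine Group.isSolvable_of_isSolvable_injective (f := f) ?_
  intro a b hab
  apply Subtype.ext
  have h1 : g⁻¹ * (a : L) * g = g⁻¹ * (b : L) * g := congrArg Subtype.val hab
  exact mul_left_cancel (mul_right_cancel h1)

theorem solvable_map {L : Type u} {L' : Type v} [Group L] [Group L'] (e : L ≃* L') {z : L}
    (hz : Group.IsSolvable ↥(centralizer ({z} : Set L))) : Group.IsSolvable ↥(centralizer ({e z} : Set L')) := by
  let f : ↥(centralizer ({e z} : Set L')) →* ↥(centralizer ({z} : Set L)) :=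
    { toFun := fun y => ⟨e.symm y, by
        have h1 := mem_centralizer_singleton_iff.1 y.2
        rw [mem_centralizer_singleton_iff]
        apply e.injective
        rw [map_mul, map_mul, MulEquiv.apply_symm_apply]
        exact h1⟩
      map_one' := by apply Subtype.ext; show e.symm 1 = 1; rw [map_one]
      map_mul' := by
        intro a b
        apply Subtype.ext
        show e.symm ((a : L') * (b : L')) = e.symm (a : L') * e.symm (b : L')
        rw [map_mul] }
  refine Group.isSolvable_of_isSolvable_injective (f := f) ?_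
  intro a b hab
  apply Subtype.ext
  exact e.symm.injective (congrArg Subtype.val hab)

/-- one Sylow subgroup is enough -/
theorem SC.of_one {p : ℕ} [Fact p.Prime] {L : Type u} [Group L] [Finite L] (P : Sylow p L)
    (h : ∀ z : L, orderOf z = p → (∀ x ∈ P, x * z = z * x) → Group.IsSolvable ↥(centralizer ({z} : Set L))) :
    SC p L := by
  intro Q z hz hzQ
  obtain ⟨g, rfl⟩ := MulAction.exists_smul_eq L P Q
  refine solvable_conj (z := g⁻¹ * z * g) (g := g) (by group) (h _ ?_ ?_)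
  · have h1 : orderOf (MulAut.conj g⁻¹ z) = orderOf z := orderOf_injective (MulAut.conj g⁻¹).toMonoidHom
      (MulAut.conj g⁻¹).injective z
    rw [MulAut.conj_apply, inv_inv] at h1
    rw [h1, hz]
  · intro x hx
    have h1 : g * x * g⁻¹ ∈ (g • P : Sylow p L) := by
      show g * x * g⁻¹ ∈ ((g • P : Sylow p L) : Subgroup L)
      rw [Sylow.coe_subgroup_smul]
      exact ⟨x, hx, rfl⟩
    have h2 := hzQ _ h1
    calc x * (g⁻¹ * z * g) = g⁻¹ * ((g * x * g⁻¹) * z) * g := by group
      _ = g⁻¹ * (z * (g * x * g⁻¹)) * g := by rw [h2]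
      _ = g⁻¹ * z * g * x := by group

/-- transport -/
theorem SC.congr {p : ℕ} [Fact p.Prime] {L : Type u} {L' : Type v} [Group L] [Group L'] [Finite L] (e : L ≃* L')
    (h : SC p L) : SC p L' := by
  intro P z hz hzP
  have h1 := h (P.comapOfInjective e.toMonoidHom e.injective (by
    rw [MonoidHom.range_eq_top.2 e.surjective]; exact le_top)) (e.symm z) ?_ ?_
  · have h2 := solvable_map e h1
    rwa [MulEquiv.apply_symm_apply] at h2
  · rw [← hz]
    exact orderOf_injective e.symm.toMonoidHom e.symm.injective z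
  · intro x hx
    have h3 : e x ∈ P := hx
    apply e.injective
    rw [map_mul, map_mul, MulEquiv.apply_symm_apply]
    exact hzP _ h3

end Cfsg.Agent.H238.SolCent
end

-- part: H238/GFiveNS
section
/-!
# The centraliser of a nontrivial element of the centre of a Sylow 5-subgroup of `G₂(5)` is not solvable (helper238)
-/

set_option autoImplicit false

namespace Cfsg.Agent.H238.GFiveNS

open Subgroup Cfsg.Lie
open Cfsg.Agent.ChevalleyStructure.Elts Cfsg.Agent.ChevalleyStructure.RootCombGood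
  Cfsg.Agent.ChevalleyStructure.RootWord Cfsg.Agent.ChevalleyStructure.BruhatSplit
open Cfsg.Agent.H82.RootCent (Dat M)
open Cfsg.Agent.H833.GFiveCent
open Cfsg.Agent.H120.GTwo (XX)
open Cfsg.Agent.H240.GFive (exists_sylow mem_zpow sys center)
open Cfsg.Agent.H240.LF Cfsg.Agent.H239.LFacts

universe u v

/-- `⟨X_a, X_-a⟩`, `a` the simple short root, is not solvable -/
theorem ns_range {F : Type} [Field F] [Fintype F] (hF : Fintype.card F = 5) :
    ¬ Group.IsSolvable ↥(chevG2.rootSubgroup F 7 ⊔ chevG2.rootSubgroup F 4 : Subgroup (GL chevG2.Idx F)) := by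
  intro hs
  obtain ⟨φ, hφ, hφ2⟩ := Cfsg.Agent.S1030.result (F := F) chevG2 inG2 7 (by decide +kernel)
  have e2 : chevG2.neg 7 = 4 := by decide +kernel
  rw [e2] at hφ
  rw [← hφ] at hs
  have hq := Cfsg.Agent.SignalizersComponents.SLQuasisimple.isQuasisimple_two (F := F)
    (by rw [Nat.card_eq_fintype_card, hF]; norm_num)
  have hp : ⁅(⊤ : Subgroup (Matrix.SpecialLinearGroup (Fin 2) F)), (⊤ : Subgroup (Matrix.SpecialLinearGroup (Fin 2) F))⁆ =
      (⊤ : Subgroup (Matrix.SpecialLinearGroup (Fin 2) F)) := by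
    have := hq.1.commutator_eq_top
    rwa [_root_.commutator_def] at this
  have h1 : ⁅φ.range, φ.range⁆ = φ.range := by
    rw [MonoidHom.range_eq_map, ← map_commutator, hp]
  have h2 := Cfsg.Agent.H238.eq_bot_of_perfect_of_isSolvable h1 hs
  let g : Matrix.SpecialLinearGroup (Fin 2) F := ⟨!![1, 1; 0, 1], by simp [Matrix.det_fin_two]⟩
  have h3 : ((φ g : GL chevG2.Idx F) : Matrix chevG2.Idx chevG2.Idx F) = chevG2.x F 7 1 := (hφ2 g 1).1 rfl
  have h4 : φ g = 1 := by
    have h5 : φ g ∈ φ.range := ⟨g, rfl⟩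
    rw [h2, mem_bot] at h5
    exact h5
  have h5 : xG inG2 7 (1 : F) = 1 := by
    apply Units.ext
    rw [coe_xG, ← h3, h4]
  exact one_ne_zero ((xG_eq_one_iff inG2 (by decide +kernel) (1 : F)).1 h5)

/-- **The centraliser of a nontrivial element of the centre of a Sylow 5-subgroup of `G₂(5)`.** -/
theorem not_solvable {L : Type u} [Group L] [Finite L] (h : Cfsg.Agent.H226.KList.GTwo 5 L) (S : Sylow 5 L) {t : L}
    (ht : t ≠ 1) (htS : t ∈ S) (hc : ∀ x ∈ S, x * t = t * x) : ¬ Group.IsSolvable ↥(centralizer ({t} : Set L)) := by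
  intro hsol
  obtain ⟨F, i1, i2, hF, ⟨e⟩⟩ := h
  have h5p : Fact (Nat.Prime 5) := ⟨by norm_num⟩
  have hch : CharP F 5 := charP_of_card_eq_prime hF
  have h2 : (2 : F) ≠ 0 := by
    intro h0
    have : ((2 : ℕ) : F) = 0 := by exact_mod_cast h0
    rw [CharP.cast_eq_zero_iff F 5] at this
    omega
  have h3 : (3 : F) ≠ 0 := by
    intro h0
    have : ((3 : ℕ) : F) = 0 := by exact_mod_cast h0
    rw [CharP.cast_eq_zero_iff F 5] at this
    omega
  obtain ⟨P0, hP0, hinj⟩ := exists_sylow (F := F) hF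
  obtain ⟨f, hf⟩ := exists_equiv e S P0
  have H := sys (F := F)
  obtain ⟨u, hu⟩ := (hP0 (f t)).1 ((hf t).1 htS)
  obtain ⟨c, hc'⟩ := _root_.Cfsg.Agent.H240.GFive.center H h2 h3 hinj (u := u) (fun v => by
    have hv := (hP0 _).2 ⟨v, rfl⟩
    rw [← hu]
    obtain ⟨y, hy⟩ := f.surjective (Cfsg.Agent.H240.GFive.NF (XX : ZMod 12 → F → ↥(chevG2.group F)) v)
    rw [← hy, ← map_mul, ← map_mul]
    rw [← hy] at hv
    rw [hc y ((hf y).2 hv)])
  have hft : f t = XX 3 c := hu.trans hc'
  have hc0 : c ≠ 0 := by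
    rintro rfl
    rw [H.zero] at hft
    exact ht ((map_eq_one_iff f f.injective).1 hft)
  have hsol2 := Cfsg.Agent.H238.SolCent.solvable_map f hsol
  rw [hft] at hsol2
  -- `M ≤ C(X₃)`
  apply ns_range hF
  let C := centralizer ({(XX 3 c : ↥(chevG2.group F))} : Set ↥(chevG2.group F))
  have hle : (chevG2.rootSubgroup F 7 ⊔ chevG2.rootSubgroup F 4 : Subgroup (GL chevG2.Idx F)) ≤
      C.map (chevG2.group F).subtype := by
    have h4 : (chevG2.rootSubgroup F 7 ⊔ chevG2.rootSubgroup F 4 : Subgroup (GL chevG2.Idx F)) ≤ M F chevG2 [4] := by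
      rw [M_eq]
      refine sup_le_sup_right ?_ _
      obtain ⟨-, h2⟩ := Cfsg.Agent.S1045.result (F := F) chevG2 inG2 0 (by decide)
      have e1 : chevG2.simple 0 = 7 := by decide +kernel
      rw [e1] at h2
      rw [← h2]
      exact le_sup_right
    refine h4.trans ?_
    rw [← Cfsg.Agent.H82.RootCent.main inG2 (dat F)]
    rintro g ⟨hg, hgc⟩
    refine ⟨⟨g, hg⟩, ?_, rfl⟩
    rw [SetLike.mem_coe, mem_centralizer_singleton_iff]
    have h5 : (⟨g, hg⟩ : ↥(chevG2.group F)) * XX 3 1 = XX 3 1 * ⟨g, hg⟩ := by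
      apply Subtype.ext
      have h6 := mem_centralizer_singleton_iff.1 hgc
      show g * ((XX 3 1 : ↥(chevG2.group F)) : GL chevG2.Idx F) = ((XX 3 1 : ↥(chevG2.group F)) : GL chevG2.Idx F) * g
      rw [Cfsg.Agent.H833.GFiveCent.coe_XX]
      exact h6
    obtain ⟨n, hn⟩ := mem_zpowers_iff.1 (mem_zpow hF H (f := 1) (f' := c) one_ne_zero)
    rw [← hn]
    exact ((show Commute _ _ from h5).zpow_right n).eq
  have h6 : Group.IsSolvable ↥(C.map (chevG2.group F).subtype) :=
    Group.isSolvable_of_isSolvable_injective (f := ((C.equivMapOfInjective _ (chevG2.group F).subtype_injective).symm).toMonoidHom)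
      (C.equivMapOfInjective _ (chevG2.group F).subtype_injective).symm.injective
  exact Group.isSolvable_of_isSolvable_injective (Subgroup.inclusion_injective hle)

end Cfsg.Agent.H238.GFiveNS
end

-- part: H334/KillL43
section
/-!
# The pair `(L₄(3), U₄(2))` (helper334, task 1787)

`K ≅ PSL₄(3)`, `L ≤ K`, `L ≅ PSU₄(2)`, `S` a Sylow 2-subgroup of `K` normalising `L`, `1 ≠ z ∈ Z(S)`: then
`N_K(O₂(C_K(z))) ≤ N_K(L)`.
-/

set_option autoImplicit false

open Subgroup

universe u v

namespace Cfsg.Agent.H334.KillL43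

open Cfsg Cfsg.Agent.OddHalf.D6.QThree.Facts

section

variable {X : Type*} [Group X]

theorem card_cent_map {Y : Type*} [Group Y] (e : X ≃* Y) (z : X) :
    Nat.card (centralizer ({e z} : Set Y)) = Nat.card (centralizer ({z} : Set X)) := by
  have h1 : centralizer ({e z} : Set Y) = (centralizer ({z} : Set X)).map e.toMonoidHom := by
    ext y
    obtain ⟨x, rfl⟩ := e.surjective y
    constructor
    · intro hx
      exact ⟨x, mem_centralizer_singleton_iff.2 ((tr_comm e).1 (mem_centralizer_singleton_iff.1 hx)), rfl⟩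
    · intro hx
      have h2 : x ∈ centralizer ({z} : Set X) := (tr_mem e).1 hx
      exact mem_centralizer_singleton_iff.2 ((tr_comm e).2 (mem_centralizer_singleton_iff.1 h2))
  rw [h1]
  exact card_map_of_injective (f := e.toMonoidHom) e.injective

/-- a 2-group is contained in the centraliser of a conjugate of `z₀` -/
theorem exists_conj_comm [Finite X] {z₀ : X} (hodd : Odd (centralizer ({z₀} : Set X)).index) (S : Sylow 2 X) :
    ∃ g : X, ∀ s ∈ S, s * (g * z₀ * g⁻¹) = (g * z₀ * g⁻¹) * s := by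
  have : Fact (Nat.Prime 2) := ⟨Nat.prime_two⟩
  have h1 : ¬ 2 ∣ Nat.card (X ⧸ centralizer ({z₀} : Set X)) := by
    intro h
    exact (Nat.not_even_iff_odd.2 hodd) (even_iff_two_dvd.2 h)
  obtain ⟨q, hq⟩ := S.isPGroup'.nonempty_fixed_point_of_prime_not_dvd_card (X ⧸ centralizer ({z₀} : Set X)) h1
  obtain ⟨g, rfl⟩ := QuotientGroup.mk_surjective q
  refine ⟨g, fun s hs => ?_⟩
  have h2 : ((s * g : X) : X ⧸ centralizer ({z₀} : Set X)) = (g : X ⧸ centralizer ({z₀} : Set X)) := hq ⟨s, hs⟩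
  have h3 : g⁻¹ * (s * g) ∈ centralizer ({z₀} : Set X) := QuotientGroup.eq.1 h2.symm
  have h4 := mem_centralizer_singleton_iff.1 h3
  calc s * (g * z₀ * g⁻¹) = g * (g⁻¹ * (s * g) * z₀) * g⁻¹ := by group
    _ = g * (z₀ * (g⁻¹ * (s * g))) * g⁻¹ := by rw [h4]
    _ = (g * z₀ * g⁻¹) * s := by group

/-- the involution in the centre of a Sylow 2-subgroup -/
theorem exists_base [Finite X] {z₀ : X} {R₀ : Subgroup X} (h : Base z₀ R₀) (S : Sylow 2 X) {z : X} (hz1 : z ≠ 1)
    (hzS : z ∈ S) (hzc : ∀ s ∈ S, s * z = z * s) :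
    ∃ R : Subgroup X, Base z R ∧ R ≤ S ∧
      Nat.card (centralizer ({z} : Set X)) = Nat.card (centralizer ({z₀} : Set X)) := by
  have : Fact (Nat.Prime 2) := ⟨Nat.prime_two⟩
  obtain ⟨g, hg⟩ := exists_conj_comm h.odd S
  have h' := h.map (MulAut.conj g)
  have hcard := card_cent_map (MulAut.conj g) z₀
  have e1 : MulAut.conj g z₀ = g * z₀ * g⁻¹ := rfl
  rw [e1] at h' hcard
  set z' := g * z₀ * g⁻¹ with hz'
  set R := R₀.map (MulAut.conj g).toMonoidHom with hR
  have hSR : (S : Subgroup X) ≤ normalizer (R : Set X) := by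
    intro s hs
    rw [mem_normalizer_iff]
    intro r
    constructor
    · intro hr
      exact h'.nR s (hg s hs) r hr
    · intro hr
      have h3 := h'.nR s⁻¹ (hg s⁻¹ (S.inv_mem hs)) _ hr
      have h4 : s⁻¹ * (s * r * s⁻¹) * s⁻¹⁻¹ = r := by group
      rwa [h4] at h3
  have hRS : R ≤ S := by
    have h3 := IsPGroup.to_sup_of_normal_right' S.isPGroup' h'.pR hSR
    have h4 := S.is_maximal' h3 le_sup_left
    rw [← h4]
    exact le_sup_right
  rcases h'.cR z (hg z hzS) (fun r hr => (hzc r (hRS hr)).symm) with h3 | h3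
  · exact absurd h3 hz1
  · rw [h3]
    exact ⟨R, h', hRS, hcard⟩

/-- `O₂(C(z)) = R` -/
theorem pCore_eq {z : X} {R : Subgroup X} (h : Base z R) :
    (pCore 2 (centralizer ({z} : Set X))).map (centralizer ({z} : Set X)).subtype = R := by
  have hn := Lib.LocalCore.le_normalizer_map_pCore 2 (centralizer ({z} : Set X))
  apply le_antisymm
  · apply h.max
    · exact (Lib.Cores.pCore_isPGroup 2).map _
    · rintro _ ⟨n, -, rfl⟩
      exact mem_centralizer_singleton_iff.1 n.2
    · intro g hg n hn'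
      exact (mem_normalizer_iff.1 (hn (mem_centralizer_singleton_iff.2 hg)) n).1 hn'
  · apply Lib.LocalCore.le_map_pCore
    · intro r hr
      exact mem_centralizer_singleton_iff.2 (h.RP r hr)
    · exact h.pR
    · intro g hg
      have hg' := mem_centralizer_singleton_iff.1 hg
      rw [mem_normalizer_iff]
      intro r
      constructor
      · intro hr
        exact h.nR g hg' r hr
      · intro hr
        have h3 := h.nR g⁻¹ (mem_centralizer_singleton_iff.1 (inv_mem hg)) _ hr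
        have h4 : g⁻¹ * (g * r * g⁻¹) * g⁻¹⁻¹ = r := by group
        rwa [h4] at h3

/-- `N(R) ≤ C(z)` -/
theorem normalizer_le {z : X} {R : Subgroup X} (h : Base z R) :
    normalizer (R : Set X) ≤ centralizer ({z} : Set X) := by
  intro g hg
  have hR := fun r => (mem_normalizer_iff.1 hg r).1
  have hR' := fun r => (mem_normalizer_iff'.1 hg r).1
  rw [mem_centralizer_singleton_iff]
  have h1 := hR z h.zR
  rcases h.cR (g * z * g⁻¹) (h.RP _ h1) (fun r hr => by
    have h2 : g⁻¹ * r * g ∈ R := by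
      have h3 := (mem_normalizer_iff.1 (inv_mem hg) r).1 hr
      rwa [inv_inv] at h3
    have h3 := h.RP _ h2
    calc g * z * g⁻¹ * r = g * (z * (g⁻¹ * r * g)) * g⁻¹ := by group
      _ = g * (g⁻¹ * r * g * z) * g⁻¹ := by rw [h3]
      _ = r * (g * z * g⁻¹) := by group) with h2 | h2
  · exact absurd (by
      calc z = g⁻¹ * (g * z * g⁻¹) * g := by group
        _ = 1 := by rw [h2]; group) h.z1
  · calc g * z = g * z * g⁻¹ * g := by group
      _ = z * g := by rw [h2]

end

/-! ### `9` divides `|C(z)|` in `PSp₄(3)` -/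

section

open Cfsg.Agent.KFacts.PSpFourThree
open Cfsg.Agent.KFacts.PSpFourThree.PE

def d2 : PE := ⟨M2.one, tt, false⟩

theorem ok_d2 : d2.Ok := ⟨by decide, by decide⟩

theorem nine_dvd : 9 ∣ Nat.card (centralizer ({PE.z} : Set (PSp 2 (Lib.FieldThree.F3)))) := by
  have c1 : d1.el * PE.z = PE.z * d1.el := z_comm ok_d1
  have c2 : d2.el * PE.z = PE.z * d2.el := z_comm ok_d2
  have c12 : d1.el * d2.el = d2.el * d1.el := (comm_iff ok_d1 ok_d2).2 (by decide)
  have o1 : orderOf d1.el = 3 := by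
    apply orderOf_eq_prime
    · rw [pow_succ, pow_two, ← el_mul ok_d1 ok_d1, ← el_mul (ok_d1.mul ok_d1) ok_d1,
        el_eq_one ((ok_d1.mul ok_d1).mul ok_d1)]
      decide
    · rw [Ne, el_eq_one ok_d1]; decide
  have o2 : orderOf d2.el = 3 := by
    apply orderOf_eq_prime
    · rw [pow_succ, pow_two, ← el_mul ok_d2 ok_d2, ← el_mul (ok_d2.mul ok_d2) ok_d2,
        el_eq_one ((ok_d2.mul ok_d2).mul ok_d2)]
      decide
    · rw [Ne, el_eq_one ok_d2]; decide
  have hb : d2.el ∉ zpowers d1.el := by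
    intro h
    obtain ⟨k, hk⟩ := mem_zpowers_iff.1 h
    have h3 := zpow_mod_orderOf d1.el k
    rw [o1, hk] at h3
    have h4 : k % 3 = 0 ∨ k % 3 = 1 ∨ k % 3 = 2 := by omega
    push_cast at h3
    rcases h4 with h4 | h4 | h4 <;> rw [h4] at h3
    · rw [zpow_zero] at h3
      have h5 := (el_eq_one ok_d2).1 h3.symm
      revert h5; decide
    · rw [zpow_one] at h3
      have h5 := (el_eq_iff ok_d1 ok_d2).1 h3
      revert h5; decide
    · have h6 : d1.el ^ (2 : ℤ) = (d1.mul d1).el := by rw [el_mul ok_d1 ok_d1]; exact zpow_two _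
      rw [h6] at h3
      have h5 := (el_eq_iff (ok_d1.mul ok_d1) ok_d2).1 h3
      revert h5; decide
  have : Fact (Nat.Prime 3) := ⟨Nat.prime_three⟩
  have p1 : IsPGroup 3 (zpowers d1.el) := IsPGroup.of_card (n := 1) (by rw [Nat.card_zpowers, o1, pow_one])
  have p2 : IsPGroup 3 (zpowers d2.el) := IsPGroup.of_card (n := 1) (by rw [Nat.card_zpowers, o2, pow_one])
  have hn : zpowers d1.el ≤ normalizer (zpowers d2.el : Set (PSp 2 (Lib.FieldThree.F3))) := by
    rw [zpowers_le]
    have h5 : d1.el ∈ centralizer (zpowers d2.el : Set (PSp 2 (Lib.FieldThree.F3))) := by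
      rw [mem_centralizer_iff]
      rintro x ⟨k, rfl⟩
      exact ((show Commute d2.el d1.el from c12.symm).zpow_left k).eq
    exact (Subgroup.centralizer_le_normalizer _) h5
  have p3 := IsPGroup.to_sup_of_normal_right' p1 p2 hn
  have hle : zpowers d1.el ⊔ zpowers d2.el ≤ centralizer ({PE.z} : Set (PSp 2 (Lib.FieldThree.F3))) := by
    rw [sup_le_iff, zpowers_le, zpowers_le]
    exact ⟨mem_centralizer_singleton_iff.2 c1, mem_centralizer_singleton_iff.2 c2⟩
  obtain ⟨n, hn'⟩ := IsPGroup.iff_card.1 p3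
  have hlt : Nat.card (zpowers d1.el) < Nat.card (zpowers d1.el ⊔ zpowers d2.el : Subgroup (PSp 2 (Lib.FieldThree.F3))) := by
    rw [← Nat.not_le]
    intro h
    have h6 := eq_of_le_of_card_ge (le_sup_left : zpowers d1.el ≤ zpowers d1.el ⊔ zpowers d2.el) h
    apply hb
    rw [h6]
    exact (le_sup_right : zpowers d2.el ≤ _) (mem_zpowers _)
  rw [Nat.card_zpowers, o1, hn'] at hlt
  have hn2 : 2 ≤ n := by
    by_contra h
    have h7 : n = 0 ∨ n = 1 := by omega
    rcases h7 with rfl | rfl <;> norm_num at hlt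
  refine dvd_trans ?_ (card_dvd_of_le hle)
  rw [hn']
  exact (show 9 = 3 ^ 2 by norm_num) ▸ pow_dvd_pow 3 hn2

end

/-! ### The Sylow 2-subgroups of a subgroup -/

section

variable {X : Type*} [Group X] [Finite X]

theorem relIndex_sup_normal (H K : Subgroup X) [K.Normal] : H.relIndex (H ⊔ K) = H.relIndex K := by
  have h1 : K.relIndex (H ⊔ K) = K.relIndex H := relIndex_sup_right H K
  have e1 : (H ⊓ K).relIndex H * H.relIndex (H ⊔ K) = (H ⊓ K).relIndex (H ⊔ K) :=
    relIndex_mul_relIndex _ _ _ inf_le_left le_sup_left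
  have e2 : (H ⊓ K).relIndex K * K.relIndex (H ⊔ K) = (H ⊓ K).relIndex (H ⊔ K) :=
    relIndex_mul_relIndex _ _ _ inf_le_right le_sup_right
  have e3 : (H ⊓ K).relIndex H = K.relIndex H := by
    rw [← inf_relIndex_right K H, inf_comm]
  have e4 : (H ⊓ K).relIndex K = H.relIndex K := inf_relIndex_right H K
  rw [e3] at e1
  rw [e4, h1] at e2
  have hpos : K.relIndex H ≠ 0 := index_ne_zero_of_finite
  have : K.relIndex H * H.relIndex (H ⊔ K) = K.relIndex H * H.relIndex K := by
    rw [e1, ← e2, mul_comm]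
  exact Nat.eq_of_mul_eq_mul_left (Nat.pos_of_ne_zero hpos) this

/-- `S ∩ L` is a Sylow 2-subgroup of `L` -/
theorem exists_sylow (S : Sylow 2 X) {L : Subgroup X} (hS : (S : Subgroup X) ≤ normalizer (L : Set X)) :
    ∃ T : Sylow 2 L, (T : Subgroup L) = (S : Subgroup X).subgroupOf L := by
  have : Fact (Nat.Prime 2) := ⟨Nat.prime_two⟩
  have h1 : IsPGroup 2 ((S : Subgroup X).subgroupOf L) :=
    S.isPGroup'.comap_of_injective L.subtype L.subtype_injective
  have h2 : ¬ 2 ∣ ((S : Subgroup X).subgroupOf L).index := by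
    have h3 := relIndex_sup_normal ((S : Subgroup X).subgroupOf (normalizer (L : Set X)))
      (L.subgroupOf (normalizer (L : Set X)))
    rw [relIndex_subgroupOf L.le_normalizer] at h3
    intro h
    have h4 : 2 ∣ ((S : Subgroup X).subgroupOf (normalizer (L : Set X))).relIndex
        ((S : Subgroup X).subgroupOf (normalizer (L : Set X)) ⊔ L.subgroupOf (normalizer (L : Set X))) := h3 ▸ h
    have h5 := h4.trans (relIndex_dvd_index_of_le le_sup_left)
    exact S.not_dvd_index (h5.trans (relIndex_dvd_index_of_le hS))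
  exact ⟨h1.toSylow h2, rfl⟩

end

/-! ### The theorem -/

theorem base_l43 {K : Type u} [Group K] (hK : H226.KList.PSLn 4 3 K) :
    ∃ (z : K) (R : Subgroup K), Base z R ∧ Nat.card (centralizer ({z} : Set K)) = 1152 := by
  obtain ⟨F, _, _, hF, ⟨e⟩⟩ := hK
  obtain ⟨f⟩ := LargeExtra.W2.LFour.PslFacts.psl_congr F hF
  refine ⟨_, _, KFacts.LFourThree.Facts.one_L.toBase.map (f.trans e.symm), ?_⟩
  rw [card_cent_map]
  exact KFacts.LFourThree.card_cent

theorem base_u42 {L : Type u} [Group L] (hL : H226.KList.PSUn 4 2 L) :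
    ∃ (z : L) (R : Subgroup L), Base z R ∧ 9 ∣ Nat.card (centralizer ({z} : Set L)) := by
  obtain ⟨F, _, _, hF, ⟨e⟩⟩ := hL
  obtain ⟨f⟩ := S0822.result (F := F) (K := Lib.FieldThree.F3) (by rw [hF]; norm_num) Lib.FieldThree.F3.card
  refine ⟨_, _, KFacts.PSpFourThree.three.toBase.map (e.trans f).symm, ?_⟩
  rw [card_cent_map]
  exact nine_dvd

theorem kill_l43 {K : Type u} [Group K] [Finite K] (hK : Cfsg.Agent.H226.KList.PSLn 4 3 K) {L : Subgroup K}
    (hL : Cfsg.Agent.H226.KList.PSUn 4 2 L) {S : Sylow 2 K} (hS : (S : Subgroup K) ≤ normalizer (L : Set K)) {z : K}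
    (hz1 : z ≠ 1) (hzS : z ∈ S) (hzc : ∀ s ∈ S, s * z = z * s) :
    normalizer (((pCore 2 (centralizer ({z} : Set K))).map (centralizer ({z} : Set K)).subtype : Subgroup K) : Set K) ≤
      normalizer (L : Set K) := by
  have : Fact (Nat.Prime 2) := ⟨Nat.prime_two⟩
  obtain ⟨z₀, R₀, hb₀, hc₀⟩ := base_l43 hK
  obtain ⟨R, hb, hRS, hc⟩ := exists_base hb₀ S hz1 hzS hzc
  rw [hc₀] at hc
  rw [pCore_eq hb]
  refine (normalizer_le hb).trans ?_
  obtain ⟨z₁, R₁, hb₁, hc₁⟩ := base_u42 hL
  obtain ⟨T, hT⟩ := exists_sylow S hS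
  have hTm : ∀ x : L, x ∈ T ↔ (x : K) ∈ S := fun x => by
    change x ∈ (T : Subgroup L) ↔ _
    rw [hT, mem_subgroupOf]; rfl
  -- `T ≠ 1`
  have h2 : 2 ∣ Nat.card L := by
    have h3 : orderOf z₁ = 2 := orderOf_eq_prime (by rw [pow_two]; exact hb₁.zz) hb₁.z1
    rw [← h3]; exact _root_.orderOf_dvd_natCard z₁
  have hT1 : (T : Subgroup L) ≠ ⊥ := T.ne_bot_of_dvd_card h2
  -- a central element of `S` in `L`
  have hn : (L.subgroupOf (S : Subgroup K)).Normal := by
    constructor
    intro k hk s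
    rw [mem_subgroupOf] at hk ⊢
    exact (mem_normalizer_iff.1 (hS s.2) _).1 hk
  have hnil : Group.IsNilpotent (S : Subgroup K) := S.isPGroup'.isNilpotent
  have h1 : L.subgroupOf (S : Subgroup K) ≠ ⊥ := by
    intro h2
    apply hT1
    rw [eq_bot_iff]
    intro x hx
    have hx' : (x : K) ∈ S := (hTm x).1 hx
    have h3 : (⟨x, hx'⟩ : (S : Subgroup K)) ∈ L.subgroupOf (S : Subgroup K) := mem_subgroupOf.2 x.2
    rw [h2, mem_bot] at h3
    exact Subtype.ext (congrArg (fun y : (S : Subgroup K) => (y : K)) h3)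
  have h3 := Lib.NormalAbelian.normal_inf_center_ne_bot (L.subgroupOf (S : Subgroup K)) h1
  have hnt := (Subgroup.nontrivial_iff_ne_bot _).2 h3
  obtain ⟨w, hw⟩ := exists_ne (1 : ↥(L.subgroupOf (S : Subgroup K) ⊓ center (S : Subgroup K)))
  have hwc : ∀ s ∈ S, s * ((w : (S : Subgroup K)) : K) = ((w : (S : Subgroup K)) : K) * s := fun s hs =>
    congrArg Subtype.val (mem_center_iff.1 w.2.2 ⟨s, hs⟩)
  have hwz : ((w : (S : Subgroup K)) : K) = z := by
    rcases hb.cR _ (hwc z hzS).symm (fun r hr => (hwc r (hRS hr)).symm) with h4 | h4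
    · exact absurd (Subtype.ext (Subtype.ext h4)) hw
    · exact h4
  have hzL : z ∈ L := by rw [← hwz]; exact mem_subgroupOf.1 w.2.1
  -- the centraliser in `L`
  obtain ⟨R₂, -, -, hc₂⟩ := exists_base hb₁ T (z := (⟨z, hzL⟩ : L)) (fun h => hz1 (congrArg Subtype.val h))
    ((hTm _).2 hzS) (fun s hs => Subtype.ext (hzc s ((hTm s).1 hs)))
  rw [← hc₂] at hc₁
  have h9 : 9 ∣ Nat.card (centralizer ({z} : Set K) ⊓ normalizer (L : Set K) : Subgroup K) := by
    have h4 : (centralizer ({(⟨z, hzL⟩ : L)} : Set L)).map L.subtype ≤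
        centralizer ({z} : Set K) ⊓ normalizer (L : Set K) := by
      rintro _ ⟨x, hx, rfl⟩
      exact ⟨mem_centralizer_singleton_iff.2 (congrArg Subtype.val (mem_centralizer_singleton_iff.1 hx)),
        L.le_normalizer x.2⟩
    have h5 := card_dvd_of_le h4
    rw [card_map_of_injective L.subtype_injective] at h5
    exact hc₁.trans h5
  have hSC : (S : Subgroup K) ≤ centralizer ({z} : Set K) := fun s hs => mem_centralizer_singleton_iff.2 (hzc s hs)
  have h128 : 128 ∣ Nat.card (S : Subgroup K) := by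
    have h4 : Nat.card (S : Subgroup K) * (S : Subgroup K).relIndex (centralizer ({z} : Set K)) = 1152 := by
      rw [← hc, ← relIndex_bot_left, ← relIndex_bot_left]
      exact relIndex_mul_relIndex _ _ _ bot_le hSC
    have h5 : ¬ 2 ∣ (S : Subgroup K).relIndex (centralizer ({z} : Set K)) := fun h =>
      S.not_dvd_index (h.trans (relIndex_dvd_index_of_le hSC))
    have h6 : Nat.Coprime 128 ((S : Subgroup K).relIndex (centralizer ({z} : Set K))) := by
      have : (128 : ℕ) = 2 ^ 7 := by norm_num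
      rw [this]
      exact Nat.Coprime.pow_left 7 ((Nat.Prime.coprime_iff_not_dvd Nat.prime_two).2 h5)
    apply h6.dvd_of_dvd_mul_right
    rw [h4]; norm_num
  have h128' : 128 ∣ Nat.card (centralizer ({z} : Set K) ⊓ normalizer (L : Set K) : Subgroup K) :=
    h128.trans (card_dvd_of_le (le_inf hSC hS))
  have h1152 : 1152 ∣ Nat.card (centralizer ({z} : Set K) ⊓ normalizer (L : Set K) : Subgroup K) := by
    have : (1152 : ℕ) = 128 * 9 := by norm_num
    rw [this]
    exact Nat.Coprime.mul_dvd_of_dvd_of_dvd (by norm_num) h128' h9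
  have heq : centralizer ({z} : Set K) ⊓ normalizer (L : Set K) = centralizer ({z} : Set K) := by
    apply eq_of_le_of_card_ge inf_le_left
    rw [hc]
    exact Nat.le_of_dvd Nat.card_pos h1152
  rw [← heq]
  exact inf_le_right

end Cfsg.Agent.H334.KillL43
end

-- part: H605/A10/Perm
section
/-!
# Simple subgroups of order 20160 of `A₁₀` normalised by a Sylow 2-subgroup (helper605)
-/

set_option autoImplicit false
set_option linter.unusedSectionVars false

namespace Cfsg.Agent.H605.A10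

open Subgroup Equiv MulAction
open scoped Pointwise

theorem fix_of_small {H : Type*} [Group H] [Finite H] [IsSimpleGroup H] (cH : Nat.card H = 20160) {X : Type*}
    [MulAction H X] (x : X) (h : (orbit H x).ncard ≤ 7) (g : H) : g • x = x := by
  by_cases hs : stabilizer H x = ⊤
  · have : g ∈ stabilizer H x := hs ▸ Subgroup.mem_top g
    exact this
  · exfalso
    have h1 := Involutions.IndexFive.card_dvd_factorial_index (stabilizer H x) hs
    rw [index_stabilizer, cH] at h1
    have h2 : (orbit H x).ncard.factorial ≤ Nat.factorial 7 := Nat.factorial_le h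
    have h3 := Nat.le_of_dvd (Nat.factorial_pos _) h1
    have h4 : Nat.factorial 7 = 5040 := rfl
    omega

variable (G : Subgroup (Perm (Fin 10))) [IsSimpleGroup ↥G] (cG : Nat.card ↥G = 20160)

include cG

theorem exists_big : ∃ i : Fin 10, 8 ≤ (orbit G i).ncard := by
  by_contra hcon
  push Not at hcon
  have h1 : ∀ σ ∈ G, σ = 1 := by
    intro σ hσ
    refine Equiv.ext fun i => ?_
    exact fix_of_small cG i (by have := hcon i; omega) ⟨σ, hσ⟩
  have h2 : G = ⊥ := by
    rw [eq_bot_iff]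
    intro σ hσ
    exact mem_bot.2 (h1 σ hσ)
  rw [h2, Subgroup.card_bot] at cG
  omega

theorem fix_of_notMem {i : Fin 10} (hi : 8 ≤ (orbit G i).ncard) {j : Fin 10} (hj : j ∉ orbit G i) {σ : Perm (Fin 10)}
    (hσ : σ ∈ G) : σ j = j := by
  refine fix_of_small cG j ?_ ⟨σ, hσ⟩
  have h1 : orbit G j ⊆ (orbit G i)ᶜ := by
    intro k hk hki
    apply hj
    have h2 := (orbit_eq_iff (G := G)).2 hk
    have h3 := (orbit_eq_iff (G := G)).2 hki
    rw [← h3, h2]
    exact mem_orbit_self j
  have h2 := Set.ncard_le_ncard h1 (Set.toFinite _)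
  have h3 := Set.ncard_add_ncard_compl (orbit G i)
  rw [Nat.card_eq_fintype_card, Fintype.card_fin] at h3
  omega

theorem not_trans (i : Fin 10) : (orbit G i).ncard ≠ 10 := by
  intro h10
  have huniv : orbit G i = Set.univ := by
    refine Set.eq_of_subset_of_ncard_le (Set.subset_univ _) ?_ (Set.toFinite _)
    rw [h10, Set.ncard_univ, Nat.card_eq_fintype_card, Fintype.card_fin]
  have htr : IsPretransitive ↥G (Fin 10) := by
    refine ⟨fun x y => ?_⟩
    obtain ⟨g, hg⟩ : x ∈ orbit G i := huniv ▸ Set.mem_univ x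
    obtain ⟨g', hg'⟩ : y ∈ orbit G i := huniv ▸ Set.mem_univ y
    refine ⟨g' * g⁻¹, ?_⟩
    have hg1 : g • i = x := hg
    have hg1' : g' • i = y := hg'
    rw [mul_smul, ← hg1, inv_smul_smul, hg1']
  have hprim : IsPreprimitive ↥G (Fin 10) := by
    refine { isTrivialBlock_of_isBlock := fun {B} hB => ?_ }
    by_contra hcon
    have hcon' : ¬ (B.Subsingleton ∨ B = Set.univ) := hcon
    push Not at hcon'
    obtain ⟨h1, h2⟩ := hcon'
    have hne : B.Nonempty := h1.nonempty
    have h3 := hB.ncard_block_mul_ncard_orbit_eq hne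
    rw [Nat.card_eq_fintype_card, Fintype.card_fin] at h3
    have h4 : 1 < B.ncard := by
      rw [Set.one_lt_ncard_iff_nontrivial]
      exact h1
    have h5 : (orbit G B).ncard ≤ 7 := by nlinarith only [h3, h4]
    have h6 : ∀ g : ↥G, g • B = B := fix_of_small cG B h5
    apply h2
    rw [Set.eq_univ_iff_forall]
    intro y
    obtain ⟨x, hx⟩ := hne
    obtain ⟨g, hg⟩ := htr.exists_smul_eq x y
    rw [← h6 g, ← hg]
    exact Set.smul_mem_smul_set hx
  have : Fact (Nat.Prime 7) := ⟨by norm_num⟩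
  obtain ⟨g, hg⟩ := exists_prime_orderOf_dvd_card' (G := ↥G) 7 (by rw [cG]; norm_num)
  have hg' : orderOf g.1 = 7 := by rw [Subgroup.orderOf_coe, hg]
  have hcyc : g.1.IsCycle := Perm.isCycle_of_prime_order' (by rw [hg']; norm_num) (by
    rw [hg', Fintype.card_fin]; norm_num)
  have hsup : g.1.support.card = 7 := by rw [← hcyc.orderOf, hg']
  have h1 := S0713.result G hprim (p := 7) (by norm_num) (by rw [Fintype.card_fin]; norm_num)
    (by rw [Fintype.card_fin]) hcyc hsup g.2
  have h2 := Subgroup.card_le_of_le h1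
  have h3 : 2 * Nat.card ↥(alternatingGroup (Fin 10)) = Nat.factorial 10 := by
    rw [Nat.card_eq_fintype_card, two_mul_card_alternatingGroup, Fintype.card_perm, Fintype.card_fin]
  have h4 : Nat.factorial 10 = 3628800 := rfl
  omega

omit cG in
theorem card_alt10 : Nat.card ↥(alternatingGroup (Fin 10)) = 1814400 := by
  have h3 : 2 * Nat.card ↥(alternatingGroup (Fin 10)) = Nat.factorial 10 := by
    rw [Nat.card_eq_fintype_card, two_mul_card_alternatingGroup, Fintype.card_perm, Fintype.card_fin]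
  have h4 : Nat.factorial 10 = 3628800 := rfl
  omega

omit [IsSimpleGroup ↥G] cG in
/-- an element normalising `G` preserves the fixed points of `G` -/
theorem fix_norm {σ : Perm (Fin 10)} (hσ : ∀ τ ∈ G, σ⁻¹ * τ * σ ∈ G) {j : Fin 10} (hj : ∀ τ ∈ G, τ j = j)
    {τ : Perm (Fin 10)} (hτ : τ ∈ G) : τ (σ j) = σ j := by
  have h1 := hj _ (hσ τ hτ)
  have h2 : (σ⁻¹ * τ * σ) j = σ⁻¹ (τ (σ j)) := rfl
  rw [h2] at h1
  have h3 := congrArg σ h1
  exact (σ.apply_symm_apply _).symm.trans h3

variable (P : Subgroup (Perm (Fin 10))) (hPA : P ≤ alternatingGroup (Fin 10)) (cP : Nat.card ↥P = 128)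
  (hPG : ∀ σ ∈ P, ∀ τ ∈ G, σ * τ * σ⁻¹ ∈ G)

omit cG in
include hPA cP in
theorem not_fix (d : Fin 10) : ∃ σ ∈ P, σ d ≠ d := by
  by_contra hcon
  push Not at hcon
  have h1 : P.subgroupOf (alternatingGroup (Fin 10)) ≤ stabilizer ↥(alternatingGroup (Fin 10)) d := by
    intro σ hσ
    exact hcon σ.1 hσ
  have h2 := Subgroup.card_dvd_of_le h1
  have h3 : Nat.card ↥(P.subgroupOf (alternatingGroup (Fin 10))) = 128 := by
    rw [← cP]
    exact Nat.card_congr (Subgroup.subgroupOfEquivOfLe hPA).toEquiv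
  have h4 := (stabilizer ↥(alternatingGroup (Fin 10)) d).card_mul_index
  have htr : IsPretransitive ↥(alternatingGroup (Fin 10)) (Fin 10) :=
    alternatingGroup.isPretransitive_of_three_le_card (Fin 10) (by
      rw [Nat.card_eq_fintype_card, Fintype.card_fin]; norm_num)
  rw [index_stabilizer_of_transitive, card_alt10, Nat.card_eq_fintype_card (α := Fin 10), Fintype.card_fin] at h4
  rw [h3] at h2
  omega

omit [IsSimpleGroup ↥G] cG G in
/-- the order of the pointwise stabiliser of two points -/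
theorem card_two {a b : Fin 10} (hab : a ≠ b) :
    Nat.card ↥(fixingSubgroup ↥(alternatingGroup (Fin 10)) ({a, b} : Set (Fin 10))) = 20160 := by
  have h1 : IsMultiplyPretransitive ↥(alternatingGroup (Fin 10)) (Fin 10) 2 := by
    have h0 := alternatingGroup.isMultiplyPretransitive (Fin 10)
    refine isMultiplyPretransitive_of_le (n := Nat.card (Fin 10) - 2) ?_ ?_
    · rw [Nat.card_eq_fintype_card, Fintype.card_fin]; norm_num
    · simp
  have h2 := h1.index_of_fixingSubgroup_mul (s := ({a, b} : Set (Fin 10))) (Set.ncard_pair hab)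
  rw [Nat.card_eq_fintype_card, Fintype.card_fin] at h2
  have h3 := (fixingSubgroup ↥(alternatingGroup (Fin 10)) ({a, b} : Set (Fin 10))).card_mul_index
  rw [card_alt10] at h3
  have h4 : Nat.factorial (10 - 2) = 40320 := rfl
  have h5 : Nat.factorial 10 = 3628800 := rfl
  rw [h4, h5] at h2
  have h6 : (fixingSubgroup ↥(alternatingGroup (Fin 10)) ({a, b} : Set (Fin 10))).index = 90 := by omega
  rw [h6] at h3
  omega

include hPA cP hPG in
/-- **`G` is the pointwise stabiliser of two points.** -/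
theorem exists_pair (hA : G ≤ alternatingGroup (Fin 10)) : ∃ a b : Fin 10, a ≠ b ∧
    (∀ σ : Perm (Fin 10), σ ∈ G ↔ Perm.sign σ = 1 ∧ σ a = a ∧ σ b = b) ∧
    ∀ i, i ≠ a → i ≠ b → ∀ j, j ≠ a → j ≠ b → ∃ τ ∈ G, τ i = j := by
  obtain ⟨i, hi⟩ := exists_big G cG
  have h1 := Set.ncard_add_ncard_compl (orbit G i)
  rw [Nat.card_eq_fintype_card, Fintype.card_fin] at h1
  have h10 := not_trans G cG i
  have hfix : ∀ j, j ∉ orbit G i → ∀ σ ∈ G, σ j = j := fun j hj σ hσ => fix_of_notMem G cG hi hj hσ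
  have hmv : ∀ j ∈ orbit G i, ¬ ∀ σ ∈ G, σ j = j := by
    intro j hj hcon
    have h2 : orbit G j = {j} := by
      ext k
      constructor
      · rintro ⟨g, rfl⟩
        exact hcon g.1 g.2
      · rintro rfl
        exact mem_orbit_self k
    have h3 := (orbit_eq_iff (G := G)).2 hj
    rw [← h3, h2, Set.ncard_singleton] at hi
    omega
  have h9 : (orbit G i).ncard ≠ 9 := by
    intro h9
    have h2 : (orbit G i)ᶜ.ncard = 1 := by omega
    obtain ⟨d, hd⟩ := Set.ncard_eq_one.1 h2
    obtain ⟨σ, hσ, hσd⟩ := not_fix P hPA cP d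
    apply hσd
    have hd' : ∀ τ ∈ G, τ d = d := hfix d (by
      have : d ∈ (orbit G i)ᶜ := hd ▸ Set.mem_singleton d
      exact this)
    have h3 : σ d ∈ (orbit G i)ᶜ := by
      intro hcon
      refine hmv _ hcon fun τ hτ => fix_norm G (fun τ' hτ' => ?_) hd' hτ
      have := hPG σ⁻¹ (inv_mem hσ) τ' hτ'
      rwa [inv_inv] at this
    rw [hd] at h3
    exact h3
  have h8 : (orbit G i)ᶜ.ncard = 2 := by omega
  obtain ⟨a, b, hab, hO⟩ := Set.ncard_eq_two.1 h8
  have hmem : ∀ j, j ∈ orbit G i ↔ j ≠ a ∧ j ≠ b := by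
    intro j
    have h2 : j ∈ (orbit G i)ᶜ ↔ j = a ∨ j = b := by rw [hO]; rfl
    rw [Set.mem_compl_iff] at h2
    (clear * - h2; tauto)
  refine ⟨a, b, hab, ?_, ?_⟩
  · have hle : G ≤ (fixingSubgroup ↥(alternatingGroup (Fin 10)) ({a, b} : Set (Fin 10))).map
        (alternatingGroup (Fin 10)).subtype := by
      intro σ hσ
      refine ⟨⟨σ, hA hσ⟩, ?_, rfl⟩
      rw [SetLike.mem_coe, mem_fixingSubgroup_iff]
      rintro y (rfl | rfl)
      · exact hfix y (fun h => ((hmem y).1 h).1 rfl) σ hσ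
      · exact hfix y (fun h => ((hmem y).1 h).2 rfl) σ hσ
    have heq := Subgroup.eq_of_le_of_card_ge hle (by
      rw [Nat.card_congr (Subgroup.equivMapOfInjective _ _ (Subgroup.subtype_injective _)).symm.toEquiv, card_two hab,
        cG])
    intro σ
    constructor
    · intro hσ
      exact ⟨hA hσ, hfix a (fun h => ((hmem a).1 h).1 rfl) σ hσ, hfix b (fun h => ((hmem b).1 h).2 rfl) σ hσ⟩
    · rintro ⟨h2, h3, h4⟩
      rw [heq]
      refine ⟨⟨σ, h2⟩, ?_, rfl⟩
      rw [SetLike.mem_coe, mem_fixingSubgroup_iff]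
      rintro y (rfl | rfl)
      · exact h3
      · exact h4
  · intro j hj1 hj2 k hk1 hk2
    obtain ⟨g, hg⟩ := (hmem j).2 ⟨hj1, hj2⟩
    obtain ⟨g', hg'⟩ := (hmem k).2 ⟨hk1, hk2⟩
    refine ⟨(g' * g⁻¹ : ↥G).1, (g' * g⁻¹).2, ?_⟩
    have h2 : g.1 i = j := hg
    have h3 : g'.1 i = k := hg'
    rw [← h2, ← h3]
    show g'.1 (g.1⁻¹ (g.1 i)) = g'.1 i
    exact congrArg g'.1 (g.1.symm_apply_apply i)

end Cfsg.Agent.H605.A10
end

-- part: H605/A10/Cyc
section
/-!
# The central involution of a Sylow 2-subgroup of `A₁₀` (helper605)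
-/

set_option autoImplicit false
set_option linter.unusedSectionVars false

namespace Cfsg.Agent.H605.A10

open Subgroup Equiv MulAction
open scoped Pointwise

/-- cycle types of the permutations of ten points of 2-power order whose centraliser has order divisible by 128 -/
theorem cycleType_of {ζ : Perm (Fin 10)} (h1 : orderOf ζ ∣ 128) (h2 : 128 ∣ Nat.card ↥(centralizer ({ζ} : Set (Perm (Fin 10)))))
    (h3 : Perm.sign ζ = 1) (h4 : ζ ≠ 1) : ζ.cycleType = Multiset.replicate 2 2 ∨ ζ.cycleType = Multiset.replicate 4 2 := by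
  set m := ζ.cycleType with hm
  have hsum : m.sum ≤ 10 := by
    rw [hm, Perm.sum_cycleType]
    exact (Finset.card_le_univ _).trans (by rw [Fintype.card_fin])
  have hmem : ∀ n ∈ m, n = 2 ∨ n = 4 ∨ n = 8 := by
    intro n hn
    have h5 := (Perm.dvd_of_mem_cycleType hn).trans h1
    have h6 := Perm.two_le_of_mem_cycleType hn
    have h7 : n ≤ 10 := (Multiset.single_le_sum (fun _ _ => Nat.zero_le _) n hn).trans hsum
    interval_cases n <;> simp_all only [_root_.ne_eq, _root_.Nat.reduceDvd, _root_.Std.le_refl, _root_.Nat.reduceLeDiff, _root_.Nat.reduceEqDiff, _root_.or_self, _root_.or_false, _root_.or_true]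
  set a := m.count 2 with ha
  set b := m.count 4 with hb
  set c := m.count 8 with hc
  have hmr : m = Multiset.replicate a 2 + Multiset.replicate b 4 + Multiset.replicate c 8 := by
    ext n
    rw [Multiset.count_add, Multiset.count_add, Multiset.count_replicate, Multiset.count_replicate,
      Multiset.count_replicate]
    by_cases hn : n ∈ m
    · rcases hmem n hn with rfl | rfl | rfl <;> simp [ha, hb, hc]
    · rw [Multiset.count_eq_zero_of_notMem hn]
      by_cases h2 : n = 2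
      · subst h2
        have : a = 0 := Multiset.count_eq_zero_of_notMem hn
        simp [this]
      · by_cases h4 : n = 4
        · subst h4
          have : b = 0 := Multiset.count_eq_zero_of_notMem hn
          simp [this]
        · by_cases h8 : n = 8
          · subst h8
            have : c = 0 := Multiset.count_eq_zero_of_notMem hn
            simp [this]
          · rw [if_neg (Ne.symm h2), if_neg (Ne.symm h4), if_neg (Ne.symm h8)]
  have hs : m.sum = 2 * a + 4 * b + 8 * c := by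
    rw [hmr, Multiset.sum_add, Multiset.sum_add, Multiset.sum_replicate, Multiset.sum_replicate,
      Multiset.sum_replicate, smul_eq_mul, smul_eq_mul, smul_eq_mul]
    ring
  have hp : m.prod = 2 ^ a * 4 ^ b * 8 ^ c := by
    rw [hmr, Multiset.prod_add, Multiset.prod_add, Multiset.prod_replicate, Multiset.prod_replicate,
      Multiset.prod_replicate]
  have hq : (∏ n ∈ m.toFinset, (m.count n).factorial) = a.factorial * b.factorial * c.factorial := by
    have h5 : m.toFinset ⊆ ({2, 4, 8} : Finset ℕ) := by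
      intro n hn
      rw [Multiset.mem_toFinset] at hn
      simp only [Finset.mem_insert, Finset.mem_singleton]
      exact hmem n hn
    rw [Finset.prod_subset h5 (fun n _ hn => by
      rw [Multiset.mem_toFinset] at hn
      rw [Multiset.count_eq_zero_of_notMem hn]; rfl)]
    rw [Finset.prod_insert (by simp), Finset.prod_insert (by simp), Finset.prod_singleton, mul_assoc]
  rw [Perm.nat_card_centralizer, ← hm, hs, hp, hq, Fintype.card_fin] at h2
  rw [hs] at hsum
  have hkey : ∀ a b c : ℕ, a < 6 → b < 3 → c < 2 → 2 * a + 4 * b + 8 * c ≤ 10 →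
      128 ∣ (10 - (2 * a + 4 * b + 8 * c)).factorial * (2 ^ a * 4 ^ b * 8 ^ c) *
        (a.factorial * b.factorial * c.factorial) → b = 0 ∧ c = 0 := by
    intro a b c ha hb hc
    interval_cases a <;> interval_cases b <;> interval_cases c <;> decide
  obtain ⟨hb0, hc0⟩ := hkey a b c (by omega) (by omega) (by omega) hsum h2
  rw [hb0, hc0] at hmr
  simp only [Multiset.replicate_zero, add_zero] at hmr
  have hsg := Perm.sign_of_cycleType ζ
  rw [h3, ← hm, hmr, Multiset.sum_replicate, Multiset.card_replicate, smul_eq_mul] at hsg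
  have ha5 : a < 6 := by omega
  have ha0 : a ≠ 0 := by
    intro h0
    apply h4
    rw [← Perm.cycleType_eq_zero, ← hm, hmr, h0, Multiset.replicate_zero]
  rw [hmr]
  interval_cases a
  · exact absurd rfl ha0
  · exact absurd hsg (by decide)
  · exact Or.inl rfl
  · exact absurd hsg (by decide)
  · exact Or.inr rfl
  · exact absurd hsg (by decide)

variable {G P : Subgroup (Perm (Fin 10))} {a b : Fin 10}

/-- `P` preserves `{a, b}` -/
theorem pair_inv (hab : ∀ σ : Perm (Fin 10), σ ∈ G ↔ Perm.sign σ = 1 ∧ σ a = a ∧ σ b = b)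
    (htr : ∀ i, i ≠ a → i ≠ b → ∀ j, j ≠ a → j ≠ b → ∃ τ ∈ G, τ i = j) (hn : a ≠ b)
    {σ : Perm (Fin 10)} (hσ : ∀ τ ∈ G, σ⁻¹ * τ * σ ∈ G) {j : Fin 10} (hj : j = a ∨ j = b) : σ j = a ∨ σ j = b := by
  by_contra hcon
  push Not at hcon
  have h1 : ∀ τ ∈ G, τ (σ j) = σ j := fun τ hτ => fix_norm G hσ (fun τ' hτ' => by
    rcases hj with rfl | rfl
    · exact ((hab τ').1 hτ').2.1
    · exact ((hab τ').1 hτ').2.2) hτ
  obtain ⟨k, hk1, hk2, hk3⟩ : ∃ k : Fin 10, k ≠ a ∧ k ≠ b ∧ k ≠ σ j := by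
    have : ∀ a b c : Fin 10, ∃ k, k ≠ a ∧ k ≠ b ∧ k ≠ c := by decide +kernel
    exact this a b (σ j)
  obtain ⟨τ, hτ, h2⟩ := htr _ hcon.1 hcon.2 k hk1 hk2
  exact hk3 (h2.symm.trans (h1 τ hτ))

/-- a Sylow 2-subgroup is transitive on the remaining points -/
theorem orbit_ge (hPA : P ≤ alternatingGroup (Fin 10)) (cP : Nat.card ↥P = 128)
    (hab : ∀ σ : Perm (Fin 10), σ ∈ G ↔ Perm.sign σ = 1 ∧ σ a = a ∧ σ b = b)
    (htr : ∀ i, i ≠ a → i ≠ b → ∀ j, j ≠ a → j ≠ b → ∃ τ ∈ G, τ i = j) (hn : a ≠ b)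
    (hP : ∀ σ ∈ P, ∀ j, j = a ∨ j = b → σ j = a ∨ σ j = b) {i : Fin 10} (hia : i ≠ a) (hib : i ≠ b) :
    8 ≤ (orbit P i).ncard := by
  set N : Subgroup (Perm (Fin 10)) := alternatingGroup (Fin 10) ⊓ stabilizer (Perm (Fin 10)) ({a, b} : Set (Fin 10))
    with hN
  have hmem : ∀ σ : Perm (Fin 10), Perm.sign σ = 1 → (∀ j, j = a ∨ j = b → σ j = a ∨ σ j = b) → σ ∈ N := by
    intro σ h1 h2
    refine mem_inf.2 ⟨h1, ?_⟩
    rw [mem_stabilizer_iff]
    refine Set.eq_of_subset_of_ncard_le ?_ ?_ (Set.toFinite _)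
    · rintro _ ⟨j, hj, rfl⟩
      exact h2 j hj
    · rw [Set.ncard_smul_set]
  have hPN : P ≤ N := fun σ hσ => hmem σ (hPA hσ) (hP σ hσ)
  have hGN : G ≤ N := fun σ hσ => hmem σ ((hab σ).1 hσ).1 (by
    rintro j (rfl | rfl)
    · exact Or.inl ((hab σ).1 hσ).2.1
    · exact Or.inr ((hab σ).1 hσ).2.2)
  have horb : orbit N i = ({a, b} : Set (Fin 10))ᶜ := by
    ext j
    constructor
    · rintro ⟨g, rfl⟩ hj
      have h1 : g.1⁻¹ • ({a, b} : Set (Fin 10)) = {a, b} := by
        have := (mem_inf.1 g.2).2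
        rw [mem_stabilizer_iff] at this
        conv_lhs => rw [← this]
        rw [inv_smul_smul]
      have h2 : g.1⁻¹ (g.1 i) ∈ ({a, b} : Set (Fin 10)) := by
        rw [← h1]
        exact Set.smul_mem_smul_set hj
      have h3 : g.1⁻¹ (g.1 i) = i := g.1.symm_apply_apply i
      rw [h3] at h2
      rcases h2 with h2 | h2
      · exact hia h2
      · exact hib h2
    · intro hj
      have hj' : ¬ (j = a ∨ j = b) := hj
      push Not at hj'
      obtain ⟨τ, hτ, h1⟩ := htr i hia hib j hj'.1 hj'.2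
      exact ⟨⟨τ, hGN hτ⟩, h1⟩
  have h8 : (orbit N i).ncard = 8 := by
    rw [horb]
    have h1 := Set.ncard_add_ncard_compl ({a, b} : Set (Fin 10))
    rw [Set.ncard_pair hn, Nat.card_eq_fintype_card, Fintype.card_fin] at h1
    omega
  have h1 := (stabilizer N i).card_mul_index
  rw [index_stabilizer, h8] at h1
  have h2 : Nat.card ↥N ∣ 1814400 := by
    rw [← card_alt10]
    exact Subgroup.card_dvd_of_le inf_le_left
  let f : ↥(stabilizer P i) →* ↥(stabilizer N i) :=
    { toFun := fun x => ⟨⟨x.1.1, hPN x.1.2⟩, x.2⟩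
      map_one' := rfl
      map_mul' := fun _ _ => rfl }
  have h3 : Nat.card ↥(stabilizer P i) ∣ Nat.card ↥(stabilizer N i) := Subgroup.card_dvd_of_injective f (by
    intro x y hxy
    have : x.1.1 = y.1.1 := congrArg (fun z : ↥(stabilizer N i) => z.1.1) hxy
    exact Subtype.ext (Subtype.ext this))
  have h4 := (stabilizer P i).card_mul_index
  rw [index_stabilizer, cP] at h4
  have h5 : Nat.card ↥(stabilizer P i) * 8 ∣ 1814400 := (Nat.mul_dvd_mul_right h3 8).trans (h1 ▸ h2)
  have h6 : Nat.card ↥(stabilizer P i) ∣ 128 := ⟨_, h4.symm⟩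
  by_contra hcon
  push Not at hcon
  have h7 : 16 < Nat.card ↥(stabilizer P i) := by
    by_contra h
    push Not at h
    nlinarith only [h4, hcon, h]
  have hkey : ∀ d ∈ Nat.divisors 128, 16 < d → ¬ d * 8 ∣ 1814400 := by decide
  exact hkey _ (Nat.mem_divisors.2 ⟨h6, by norm_num⟩) h7 h5

/-- **The central involution.** -/
theorem zeta (hPA : P ≤ alternatingGroup (Fin 10)) (cP : Nat.card ↥P = 128)
    (hab : ∀ σ : Perm (Fin 10), σ ∈ G ↔ Perm.sign σ = 1 ∧ σ a = a ∧ σ b = b)
    (htr : ∀ i, i ≠ a → i ≠ b → ∀ j, j ≠ a → j ≠ b → ∃ τ ∈ G, τ i = j) (hn : a ≠ b)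
    (hP : ∀ σ ∈ P, ∀ j, j = a ∨ j = b → σ j = a ∨ σ j = b) {ζ : Perm (Fin 10)} (hζ : ζ ∈ P) (hζ1 : ζ ≠ 1)
    (hc : ∀ σ ∈ P, σ * ζ = ζ * σ) : ζ.cycleType = Multiset.replicate 4 2 ∧ ζ a = a ∧ ζ b = b := by
  have h1 : orderOf ζ ∣ 128 := by
    rw [← cP, ← Subgroup.orderOf_mk ζ hζ]
    exact _root_.orderOf_dvd_natCard _
  have h2 : 128 ∣ Nat.card ↥(centralizer ({ζ} : Set (Perm (Fin 10)))) := by
    rw [← cP]
    refine Subgroup.card_dvd_of_le fun σ hσ => ?_
    rw [mem_centralizer_singleton_iff]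
    exact hc σ hσ
  have h3 := cycleType_of h1 h2 (hPA hζ) hζ1
  have hs : 4 ≤ ζ.support.card := by
    rw [← Perm.sum_cycleType]
    rcases h3 with h | h <;> rw [h] <;> decide
  obtain ⟨i, hi, hi1, hi2⟩ : ∃ i ∈ ζ.support, i ≠ a ∧ i ≠ b := by
    by_contra hcon
    push Not at hcon
    have h4 : ζ.support ⊆ {a, b} := by
      intro k hk
      by_cases h : k = a
      · rw [h]; exact Finset.mem_insert_self _ _
      · rw [hcon k hk h]; exact Finset.mem_insert_of_mem (Finset.mem_singleton_self _)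
    have h5 := Finset.card_le_card h4
    have h6 : ({a, b} : Finset (Fin 10)).card ≤ 2 := Finset.card_le_two
    omega
  have h4 := orbit_ge hPA cP hab htr hn hP hi1 hi2
  have h5 : orbit P i ⊆ ((ζ.support \ {a, b} : Finset (Fin 10)) : Set (Fin 10)) := by
    rintro _ ⟨σ, rfl⟩
    show σ.1 i ∈ ((ζ.support \ {a, b} : Finset (Fin 10)) : Set (Fin 10))
    rw [Finset.mem_coe, Finset.mem_sdiff, Perm.mem_support]
    constructor
    · have h6 : ζ (σ.1 i) = σ.1 (ζ i) := (congrArg (fun f : Perm (Fin 10) => f i) (hc σ.1 σ.2)).symm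
      rw [h6]
      exact fun h => (Perm.mem_support.1 hi) (σ.1.injective h)
    · intro h6
      rw [Finset.mem_insert, Finset.mem_singleton] at h6
      have h7 := hP σ.1⁻¹ (inv_mem σ.2) _ h6
      have h8 : σ.1⁻¹ (σ.1 i) = i := σ.1.symm_apply_apply i
      rw [h8] at h7
      rcases h7 with h7 | h7
      · exact hi1 h7
      · exact hi2 h7
  have h6 := Set.ncard_le_ncard h5 (Set.toFinite _)
  rw [Set.ncard_coe_finset] at h6
  have h7 : (ζ.support \ {a, b}).card ≤ ζ.support.card := Finset.card_le_card Finset.sdiff_subset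
  have h8 : ζ.cycleType = Multiset.replicate 4 2 := by
    rcases h3 with h | h
    · exfalso
      have h9 : ζ.support.card = 4 := by rw [← Perm.sum_cycleType, h]; decide
      omega
    · exact h
  have h9 : ζ.support.card = 8 := by rw [← Perm.sum_cycleType, h8]; decide
  have h10 : ζ.support \ {a, b} = ζ.support := Finset.eq_of_subset_of_card_le Finset.sdiff_subset (by omega)
  have h11 : ∀ j, j = a ∨ j = b → ζ j = j := by
    intro j hj
    by_contra hne
    have h12 : j ∈ ζ.support \ {a, b} := by rw [h10]; exact Perm.mem_support.2 hne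
    rw [Finset.mem_sdiff, Finset.mem_insert, Finset.mem_singleton] at h12
    exact h12.2 hj
  exact ⟨h8, h11 a (Or.inl rfl), h11 b (Or.inr rfl)⟩

end Cfsg.Agent.H605.A10
end

-- part: H605/A10/Std
section
/-!
# The 2-core of the centraliser of `(0 1)(2 3)(4 5)(6 7)` in `A₁₀` (helper605)

* `mem_of_norm` : an element normalising `O₂(C(z))` preserves the two fixed points of `z`.
-/

set_option autoImplicit false
set_option linter.unusedSectionVars false

namespace Cfsg.Agent.H605.A10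

open Subgroup Cfsg Equiv

/-- the involution `(0 1)(2 3)(4 5)(6 7)` -/
def z0 : Perm (Fin 10) := swap (0 : Fin 10) 1 * swap (2 : Fin 10) 3 * swap (4 : Fin 10) 5 * swap (6 : Fin 10) 7

/-- the involution `(0 2)(1 3)(4 6)(5 7)` -/
def v1 : Perm (Fin 10) := swap (0 : Fin 10) 2 * swap (1 : Fin 10) 3 * swap (4 : Fin 10) 6 * swap (5 : Fin 10) 7

/-- the pair containing a point -/
def pr4 : Fin 10 → Fin 4 := ![0, 0, 1, 1, 2, 2, 3, 3, 0, 0]

/-- the first point of a pair -/
def rp : Fin 4 → Fin 10 := ![0, 2, 4, 6]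

theorem z0_ne_iff : ∀ j : Fin 10, z0 j ≠ j ↔ j.1 < 8 := by decide

theorem pr4_z0 : ∀ j : Fin 10, pr4 (z0 j) = pr4 j := by decide

theorem pr4_rp : ∀ i : Fin 4, pr4 (rp i) = i := by decide

theorem rp_lt : ∀ i : Fin 4, (rp i).1 < 8 := by decide

theorem eq_rp : ∀ j : Fin 10, j.1 < 8 → j = rp (pr4 j) ∨ j = z0 (rp (pr4 j)) := by decide

theorem eq_of_pr4 : ∀ i j : Fin 10, i.1 < 8 → j.1 < 8 → pr4 i = pr4 j → i = j ∨ i = z0 j := by decide +kernel

theorem z0_z0 : ∀ j : Fin 10, z0 (z0 j) = j := by decide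

section one

variable {x y : Perm (Fin 10)}

theorem lt_of_comm (hx : x * z0 = z0 * x) {j : Fin 10} : (x j).1 < 8 ↔ j.1 < 8 := by
  rw [← z0_ne_iff, ← z0_ne_iff]
  have h1 : z0 (x j) = x (z0 j) := by
    have := congrArg (fun f : Perm (Fin 10) => f j) hx
    exact this.symm
  rw [h1]
  exact x.injective.ne_iff

theorem pr4_comm (hx : x * z0 = z0 * x) {j : Fin 10} (hj : j.1 < 8) : pr4 (x j) = pr4 (x (rp (pr4 j))) := by
  rcases eq_rp j hj with h | h
  · rw [← h]
  · have h1 : ∀ k, z0 (x k) = x (z0 k) := fun k => (congrArg (fun f : Perm (Fin 10) => f k) hx).symm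
    conv_lhs => rw [h]
    rw [← h1, pr4_z0]

end one

/-- the Klein four group -/
def isV (s : Perm (Fin 4)) : Prop := s * s = 1 ∧ (s = 1 ∨ ∀ i, s i ≠ i)

instance : DecidablePred isV := fun s => inferInstanceAs (Decidable (s * s = 1 ∧ (s = 1 ∨ ∀ i, s i ≠ i)))

/-- the Klein four group -/
def V4 : Subgroup (Perm (Fin 4)) where
  carrier := {s | isV s}
  mul_mem' {a b} ha hb := by
    have h : ∀ a b : Perm (Fin 4), isV a → isV b → isV (a * b) := by (delta Cfsg.Agent.H605.A10.isV; set_option synthInstance.maxSize 9000 in open scoped Cfsg.Agent.Lib.FastPerm in decide +kernel)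
    exact h a b ha hb
  one_mem' := by
    show isV 1
    decide
  inv_mem' {a} ha := by
    have h : ∀ a : Perm (Fin 4), isV a → isV a⁻¹ := by (delta Cfsg.Agent.H605.A10.isV; set_option synthInstance.maxSize 9000 in open scoped Cfsg.Agent.Lib.FastPerm in decide +kernel)
    exact h a ha

instance : V4.Normal := ⟨by
  intro n hn g
  have h : ∀ a g : Perm (Fin 4), isV a → isV (g * a * g⁻¹) := by (delta Cfsg.Agent.H605.A10.isV; set_option synthInstance.maxSize 9000 in open scoped Cfsg.Agent.Lib.FastPerm in decide +kernel)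
  exact h n g hn⟩

variable {K : Type*} [Group K] [Finite K] (f : K →* Perm (Fin 10)) {z : K} (hz : f z = z0)

include hz in
theorem comm_z0 (x : ↥(centralizer ({z} : Set K))) : f x.1 * z0 = z0 * f x.1 := by
  rw [← hz, ← map_mul, ← map_mul, mem_centralizer_singleton_iff.1 x.2]

/-- the action on the four pairs -/
def ind : ↥(centralizer ({z} : Set K)) →* Function.End (Fin 4) where
  toFun x := fun i => pr4 (f x.1 (rp i))
  map_one' := by
    funext i
    show pr4 (f 1 (rp i)) = i
    rw [map_one]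
    exact pr4_rp i
  map_mul' x y := by
    funext i
    show pr4 (f (x.1 * y.1) (rp i)) = pr4 (f x.1 (rp (pr4 (f y.1 (rp i)))))
    rw [map_mul]
    show pr4 (f x.1 (f y.1 (rp i))) = _
    exact pr4_comm (comm_z0 f hz x) ((lt_of_comm (comm_z0 f hz y)).2 (rp_lt i))

/-- the action on the four pairs -/
def ind' : ↥(centralizer ({z} : Set K)) →* Perm (Fin 4) :=
  (Equiv.Perm.equivUnitsEnd (α := Fin 4)).symm.toMonoidHom.comp (ind f hz).toHomUnits

theorem ind'_apply (x : ↥(centralizer ({z} : Set K))) (i : Fin 4) : ind' f hz x i = pr4 (f x.1 (rp i)) := rfl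

theorem pr4_ind (x : ↥(centralizer ({z} : Set K))) {j : Fin 10} (hj : j.1 < 8) :
    pr4 (f x.1 j) = ind' f hz x (pr4 j) := by
  rw [ind'_apply]
  exact pr4_comm (comm_z0 f hz x) hj

/-- the preimage of the Klein four group is a 2-group -/
theorem isPGroup_V (hf : Function.Injective f) : IsPGroup 2 ↥(V4.comap (ind' f hz)) := by
  rintro ⟨x, hx⟩
  refine ⟨2, Subtype.ext (Subtype.ext (hf ?_))⟩
  have hx2 : ind' f hz x * ind' f hz x = 1 := (show isV (ind' f hz x) from hx).1
  show f (x.1 ^ 4) = f 1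
  rw [map_one, map_pow]
  set X := f x.1 with hX
  have hc : X * z0 = z0 * X := comm_z0 f hz x
  have h1 : ∀ k, z0 (X k) = X (z0 k) := fun k => (congrArg (fun f : Perm (Fin 10) => f k) hc).symm
  have h2 : ∀ j : Fin 10, j.1 < 8 → X (X j) = j ∨ X (X j) = z0 j := by
    intro j hj
    refine eq_of_pr4 _ _ ((lt_of_comm hc).2 ((lt_of_comm hc).2 hj)) hj ?_
    rw [pr4_ind f hz x ((lt_of_comm hc).2 hj), pr4_ind f hz x hj, ← Perm.mul_apply, hx2, Perm.one_apply]
  have h3 : ∀ j : Fin 10, ¬ j.1 < 8 → X (X j) = j := by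
    intro j hj
    have h4 : ¬ (X j).1 < 8 := fun h => hj ((lt_of_comm hc).1 h)
    have h5 : ¬ (X (X j)).1 < 8 := fun h => h4 ((lt_of_comm hc).1 h)
    have h6 : ∀ a b c : Fin 10, ¬ a.1 < 8 → ¬ b.1 < 8 → ¬ c.1 < 8 → (a = b ↔ b = c) → c = a := by decide +kernel
    exact h6 _ _ _ hj h4 h5 ⟨fun h => by rw [← h]; exact h, fun h => X.injective h⟩
  refine Equiv.ext fun j => ?_
  have h7 : (X ^ 4) j = X (X (X (X j))) := rfl
  rw [h7, Perm.one_apply]
  by_cases hj : j.1 < 8
  · rcases h2 j hj with h | h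
    · rw [h, h]
    · rw [h, ← h1, ← h1, h, z0_z0]
  · rw [h3 j hj, h3 j hj]

/-- the 2-core of the centraliser -/
noncomputable abbrev QQ (z : K) : Subgroup K :=
  (pCore 2 ↥(centralizer ({z} : Set K))).map (centralizer ({z} : Set K)).subtype

theorem le_pCore {x : ↥(centralizer ({z} : Set K))} (hf : Function.Injective f) (hx : isV (ind' f hz x)) :
    x.1 ∈ QQ z := by
  refine ⟨x, ?_, rfl⟩
  have h1 : V4.comap (ind' f hz) ≤ pCore 2 ↥(centralizer ({z} : Set K)) :=
    le_sSup ⟨inferInstance, isPGroup_V f hz hf⟩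
  exact h1 (show x ∈ V4.comap (ind' f hz) from hx)

theorem QQ_le : QQ z ≤ centralizer ({z} : Set K) := map_subtype_le _

include hz in
/-- **An element normalising `O₂(C(z))` preserves the fixed points of `z`.** -/
theorem mem_of_norm (hf : Function.Injective f) {v : K} (hv : f v = v1) {g : K}
    (hg : g ∈ normalizer (QQ z : Set K)) {j : Fin 10} (hj : ¬ j.1 < 8) : ¬ (f g j).1 < 8 := by
  intro hlt
  have hzC : z ∈ centralizer ({z} : Set K) := by rw [mem_centralizer_singleton_iff]
  have hvC : v ∈ centralizer ({z} : Set K) := by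
    rw [mem_centralizer_singleton_iff]
    apply hf
    rw [map_mul, map_mul, hv, hz]
    decide +kernel
  have hzQ : z ∈ QQ z := le_pCore f hz (x := ⟨z, hzC⟩) hf (by
    have h1 : ind' f hz ⟨z, hzC⟩ = 1 := by
      refine Equiv.ext fun i => ?_
      rw [ind'_apply]
      show pr4 (f z (rp i)) = i
      rw [hz, pr4_z0, pr4_rp]
    rw [h1]
    decide)
  have hvQ : v ∈ QQ z := le_pCore f hz (x := ⟨v, hvC⟩) hf (by
    have h1 : ind' f hz ⟨v, hvC⟩ = swap 0 1 * swap 2 3 := by
      refine Equiv.ext fun i => ?_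
      rw [ind'_apply]
      show pr4 (f v (rp i)) = _
      rw [hv]
      revert i
      decide
    rw [h1]
    decide)
  -- the elements of `Q` preserve the fixed points
  have hQ : ∀ q ∈ QQ z, ¬ (f (g⁻¹ * q * g) j).1 < 8 := by
    intro q hq hcon
    have h1 : g⁻¹ * q * g ∈ QQ z := by
      have h3 := (mem_normalizer_iff.1 (inv_mem hg) q).1 hq
      rwa [inv_inv] at h3
    have h2 := comm_z0 f hz ⟨_, QQ_le h1⟩
    exact hj ((lt_of_comm h2).1 hcon)
  have h1 := hQ 1 (one_mem _)
  have h2 := hQ z hzQ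
  have h3 := hQ v hvQ
  have e : ∀ q : K, f (g⁻¹ * q * g) j = (f g)⁻¹ (f q (f g j)) := by
    intro q
    rw [map_mul, map_mul, map_inv]
    rfl
  rw [e] at h1 h2 h3
  rw [map_one, Perm.one_apply] at h1
  rw [hz] at h2
  rw [hv] at h3
  have h4 : ∀ a b c : Fin 10, ¬ a.1 < 8 → ¬ b.1 < 8 → ¬ c.1 < 8 → a = b ∨ a = c ∨ b = c := by decide +kernel
  have h5 : ∀ k : Fin 10, k.1 < 8 → k ≠ z0 k ∧ k ≠ v1 k ∧ z0 k ≠ v1 k := by decide
  obtain ⟨h6, h7, h8⟩ := h5 (f g j) hlt
  rcases h4 _ _ _ h1 h2 h3 with h | h | h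
  · exact h6 ((f g)⁻¹.injective h)
  · exact h7 ((f g)⁻¹.injective h)
  · exact h8 ((f g)⁻¹.injective h)

end Cfsg.Agent.H605.A10
end

-- part: H605/A10/Main
section
/-!
# The pair `(A₁₀, A₈)`, `p = 2` (helper605, for S2892)

* `kill_a10` : `N_K(O₂(C_K(z))) ≤ N_K(L)`.
-/

set_option autoImplicit false

namespace Cfsg.Agent.H605.A10

open Subgroup Cfsg Equiv

universe u

theorem kill_a10 {K : Type u} [Group K] [Finite K] (e10 : K ≃* alternatingGroup (Fin 10)) {L : Subgroup K}
    (e8 : L ≃* alternatingGroup (Fin 8)) {S : Sylow 2 K} (hS : (S : Subgroup K) ≤ normalizer (L : Set K)) {z : K}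
    (hz1 : z ≠ 1) (hzS : z ∈ S) (hzc : ∀ s ∈ S, s * z = z * s) :
    normalizer (((pCore 2 (centralizer ({z} : Set K))).map (centralizer ({z} : Set K)).subtype : Subgroup K) : Set K) ≤
      normalizer (L : Set K) := by
  set f : K →* Perm (Fin 10) := (alternatingGroup (Fin 10)).subtype.comp e10.toMonoidHom with hf
  have hfi : Function.Injective f := (Subgroup.subtype_injective _).comp e10.injective
  have hfr : ∀ σ : Perm (Fin 10), Perm.sign σ = 1 → ∃ x, f x = σ := fun σ hσ =>
    ⟨e10.symm ⟨σ, hσ⟩, by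
      show (e10 (e10.symm ⟨σ, hσ⟩)).1 = σ
      rw [MulEquiv.apply_symm_apply]⟩
  have hfs : ∀ x, Perm.sign (f x) = 1 := fun x => (e10 x).2
  have hs8 : IsSimpleGroup ↥(alternatingGroup (Fin 8)) := alternatingGroup.isSimpleGroup (by
    rw [Nat.card_eq_fintype_card, Fintype.card_fin]; norm_num)
  have eL : ↥(L.map f) ≃* ↥(alternatingGroup (Fin 8)) := (L.equivMapOfInjective f hfi).symm.trans e8
  have hsG : IsSimpleGroup ↥(L.map f) := eL.isSimpleGroup
  have cG : Nat.card ↥(L.map f) = 20160 := by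
    rw [Nat.card_congr eL.toEquiv]
    have h3 : 2 * Nat.card ↥(alternatingGroup (Fin 8)) = Nat.factorial 8 := by
      rw [Nat.card_eq_fintype_card, two_mul_card_alternatingGroup, Fintype.card_perm, Fintype.card_fin]
    have h4 : Nat.factorial 8 = 40320 := rfl
    omega
  have cK : Nat.card K = 1814400 := by rw [Nat.card_congr e10.toEquiv, card_alt10]
  have hA : ∀ H : Subgroup K, H.map f ≤ alternatingGroup (Fin 10) := by
    rintro H _ ⟨x, -, rfl⟩
    exact hfs x
  have cP : Nat.card ↥((S : Subgroup K).map f) = 128 := by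
    rw [Nat.card_congr ((S : Subgroup K).equivMapOfInjective f hfi).symm.toEquiv]
    have h1 := S.card_eq_multiplicity
    rw [cK] at h1
    have h2 : (1814400 : ℕ).factorization 2 = 7 := by
      have h3 : (1814400 : ℕ) = 2 ^ 7 * 14175 := by norm_num
      rw [h3, Nat.factorization_mul (by norm_num) (by norm_num), Nat.factorization_pow,
        Nat.Prime.factorization Nat.prime_two]
      simp only [Nat.factorization_eq_zero_of_not_dvd, _root_.Finsupp.smul_single, _root_.smul_eq_mul, _root_.mul_one, _root_.Finsupp.coe_add, _root_.Pi.add_apply, _root_.Finsupp.single_eq_same, _root_.Nat.reduceDvd, _root_.not_false_eq_true, _root_.add_zero]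
    rw [h2] at h1
    rw [h1]; norm_num
  have hPG : ∀ σ ∈ (S : Subgroup K).map f, ∀ τ ∈ L.map f, σ * τ * σ⁻¹ ∈ L.map f := by
    rintro _ ⟨s, hs, rfl⟩ _ ⟨l, hl, rfl⟩
    refine ⟨s * l * s⁻¹, (mem_normalizer_iff.1 (hS hs) l).1 hl, ?_⟩
    rw [map_mul, map_mul, map_inv]
  obtain ⟨a, b, hab, hG, htr⟩ := exists_pair (L.map f) cG ((S : Subgroup K).map f) (hA _) cP hPG (hA _)
  have hinv : ∀ x ∈ normalizer (L : Set K), ∀ j, j = a ∨ j = b → f x j = a ∨ f x j = b := by
    intro x hx j hj
    refine pair_inv hG htr hab (fun τ hτ => ?_) hj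
    obtain ⟨l, hl, rfl⟩ := hτ
    refine ⟨x⁻¹ * l * x, ?_, ?_⟩
    · have := (mem_normalizer_iff.1 (inv_mem hx) l).1 hl
      rwa [inv_inv] at this
    · rw [map_mul, map_mul, map_inv]
  have hP : ∀ σ ∈ (S : Subgroup K).map f, ∀ j, j = a ∨ j = b → σ j = a ∨ σ j = b := by
    rintro _ ⟨s, hs, rfl⟩
    exact hinv s (hS hs)
  obtain ⟨hz2, hza, hzb⟩ := zeta (hA _) cP hG htr hab hP (ζ := f z) ⟨z, hzS, rfl⟩
    (fun h => hz1 (hfi (h.trans (map_one f).symm))) (by
      rintro _ ⟨s, hs, rfl⟩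
      rw [← map_mul, ← map_mul, hzc s hs])
  -- the standard position
  have hz0 : z0.cycleType = Multiset.replicate 4 2 := by decide +kernel
  obtain ⟨c, hc⟩ := isConj_iff.1 (Perm.isConj_iff_cycleType_eq.2 (hz2.trans hz0.symm))
  let f' : K →* Perm (Fin 10) := (MulAut.conj c).toMonoidHom.comp f
  have hf' : ∀ x, f' x = c * f x * c⁻¹ := fun x => rfl
  have hf'i : Function.Injective f' := (MulAut.conj c).injective.comp hfi
  have hzz : f' z = z0 := hc
  obtain ⟨v, hv⟩ : ∃ v, f' v = v1 := by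
    obtain ⟨x, hx⟩ := hfr (c⁻¹ * v1 * c) (by
      rw [map_mul, map_mul, map_inv, show Perm.sign v1 = 1 from by decide, mul_one, inv_mul_cancel])
    exact ⟨x, by rw [hf', hx]; group⟩
  -- the fixed points
  have hfx : ∀ j, f z j = j → ¬ (c j).1 < 8 := by
    intro j hj hlt
    apply (z0_ne_iff (c j)).2 hlt
    rw [← hc]
    show c (f z (c⁻¹ (c j))) = c j
    have h1 : c⁻¹ (c j) = j := c.symm_apply_apply j
    rw [h1, hj]
  have hca := hfx a hza
  have hcb := hfx b hzb
  have hcab : ∀ k : Fin 10, ¬ k.1 < 8 → k = c a ∨ k = c b := by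
    have h1 : ∀ x y k : Fin 10, x ≠ y → ¬ x.1 < 8 → ¬ y.1 < 8 → ¬ k.1 < 8 → k = x ∨ k = y := by decide +kernel
    exact fun k hk => h1 (c a) (c b) k (fun h => hab (c.injective h)) hca hcb hk
  intro g hg
  have h1 : ∀ j, j = a ∨ j = b → f g j = a ∨ f g j = b := by
    intro j hj
    have h2 : ¬ (c j).1 < 8 := by rcases hj with rfl | rfl <;> assumption
    have h3 := mem_of_norm f' hzz hf'i hv hg h2
    have h4 : f' g (c j) = c (f g j) := by
      show c (f g (c⁻¹ (c j))) = c (f g j)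
      have h1 : c⁻¹ (c j) = j := c.symm_apply_apply j
      rw [h1]
    rw [h4] at h3
    rcases hcab _ h3 with h | h
    · exact Or.inl (c.injective h)
    · exact Or.inr (c.injective h)
  have key : ∀ g : K, (∀ j, j = a ∨ j = b → f g j = a ∨ f g j = b) → ∀ l ∈ L, g⁻¹ * l * g ∈ L := by
    intro g hg l hl
    have h2 := (hG (f l)).1 ⟨l, hl, rfl⟩
    have h3 : f (g⁻¹ * l * g) ∈ L.map f := by
      rw [hG]
      refine ⟨hfs _, ?_, ?_⟩
      · rw [map_mul, map_mul, map_inv]
        show (f g)⁻¹ (f l (f g a)) = a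
        have h4 : f l (f g a) = f g a := by
          rcases hg a (Or.inl rfl) with h | h <;> rw [h]
          · exact h2.2.1
          · exact h2.2.2
        rw [h4]
        exact (f g).symm_apply_apply a
      · rw [map_mul, map_mul, map_inv]
        show (f g)⁻¹ (f l (f g b)) = b
        have h4 : f l (f g b) = f g b := by
          rcases hg b (Or.inr rfl) with h | h <;> rw [h]
          · exact h2.2.1
          · exact h2.2.2
        rw [h4]
        exact (f g).symm_apply_apply b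
    obtain ⟨l', hl', h4⟩ := h3
    rwa [← hfi h4]
  have h2 : g⁻¹ ∈ normalizer (L : Set K) := by
    refine mem_normalizer_fintype fun l hl => ?_
    rw [inv_inv]
    exact key g h1 l hl
  rw [← inv_inv g]
  exact inv_mem h2

end Cfsg.Agent.H605.A10
end

-- part: H238/Last
section
/-!
# S2891, S2892 from S2888 (helper238)

* `H88` : S2888 in the form of `H226.ParG.s2888`;
* `SCList` : the solvable centralisers;
* `s2892`, `s2891`.
-/

set_option autoImplicit false
set_option linter.unusedSectionVars false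

namespace Cfsg.Agent.H238.Last

open Subgroup Cfsg
open Cfsg.Agent.H239.CharPLocal (CP)
open Cfsg.Agent.H226 Cfsg.Agent.H226.KList Cfsg.Agent.H226.ParG Cfsg.Agent.H226.Setup
open Cfsg.Agent.H238.SolCent

universe u

/-- S2888 -/
def H88 : Prop :=
  ∀ {G : Type u} [Group G] [Finite G] {p : ℕ} [Fact p.Prime], IsOfParabolicCharacteristic p G → ∀ H : Subgroup G,
    ¬ p ∣ H.index →
    normalizer (((generalizedFittingSubgroup ↥H).map H.subtype : Subgroup G) : Set G) = H →
    IsLieRankAtLeastTwoChar p ↥(generalizedFittingSubgroup ↥H) →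
    (∃ R : Subgroup G, IsPGroup p R ∧ R ≠ ⊥ ∧
      (∃ T : Sylow p ↥H, (T : Subgroup ↥H).map H.subtype ≤ normalizer (R : Set G)) ∧ ¬ normalizer (R : Set G) ≤ H) →
    Concl p G ↥(generalizedFittingSubgroup ↥H)

variable {G : Type u} [Group G] [Finite G] {p : ℕ} [hp : Fact p.Prime]

/-- `R = O_p(C_G(z))` -/
theorem concl (h88 : H88.{u}) (hpar : IsOfParabolicCharacteristic p G) (S₀ : Sylow p G) (H : Subgroup G)
    (hS : (S₀ : Subgroup G) ≤ H)
    (hN : normalizer (((generalizedFittingSubgroup ↥H).map H.subtype : Subgroup G) : Set G) = H)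
    (hF : IsLieRankAtLeastTwoChar p ↥(generalizedFittingSubgroup ↥H)) {z : G} (hz1 : z ≠ 1)
    (hzS : z ∈ (S₀ : Subgroup G)) (hzc : ∀ s ∈ (S₀ : Subgroup G), s * z = z * s)
    (hzn : ¬ normalizer (((pCore p ↥(centralizer ({z} : Set G))).map (centralizer ({z} : Set G)).subtype :
      Subgroup G) : Set G) ≤ H) : Concl p G ↥(generalizedFittingSubgroup ↥H) := by
  set C := centralizer ({z} : Set G) with hC
  set R := (pCore p ↥C).map C.subtype with hR
  have hSC : (S₀ : Subgroup G) ≤ C := fun s hs => mem_centralizer_singleton_iff.2 (hzc s hs)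
  have hCR : C ≤ normalizer (R : Set G) := by
    intro c hc
    have hn : (pCore p ↥C).Normal := Lib.Cores.pCore_normal p
    rw [mem_normalizer_iff]
    intro x
    constructor
    · rintro ⟨y, hy, rfl⟩
      exact ⟨(⟨c, hc⟩ * y * ⟨c, hc⟩⁻¹ :), hn.conj_mem y hy _, rfl⟩
    · rintro ⟨y, hy, hyx⟩
      refine ⟨(⟨c, hc⟩⁻¹ * y * ⟨c, hc⟩ :), ?_, ?_⟩
      · have := hn.conj_mem y hy ⟨c, hc⟩⁻¹
        rwa [inv_inv] at this
      · change c⁻¹ * (y : G) * c = x
        have h1 : (y : G) = c * x * c⁻¹ := hyx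
        rw [h1]
        group
  refine h88 hpar H ?_ hN hF ⟨R, ?_, ?_, ⟨S₀.subtype hS, ?_⟩, hzn⟩
  · intro h
    exact S₀.not_dvd_index (h.trans (Subgroup.index_dvd_of_le hS))
  · exact (Lib.Cores.pCore_isPGroup p).map _
  · intro hb
    apply hz1
    have hzC : z ∈ C := mem_centralizer_singleton_iff.2 rfl
    have h1 : zpowers (⟨z, hzC⟩ : ↥C) ≤ pCore p ↥C := by
      refine Lib.Cores.le_pCore ?_ ?_
      · refine ⟨fun a ha g => ?_⟩
        obtain ⟨k, rfl⟩ := mem_zpowers_iff.1 ha
        have h2 : Commute g (⟨z, hzC⟩ : ↥C) := Subtype.ext (mem_centralizer_singleton_iff.1 g.2)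
        have h3 := (h2.zpow_right k).eq
        rw [h3, mul_inv_cancel_right]
        exact ha
      · have h2 : IsPGroup p ↥((S₀ : Subgroup G).subgroupOf C) := by
          have h0 : IsPGroup p (((S₀ : Subgroup G).subgroupOf C).map C.subtype) :=
            S₀.isPGroup'.to_le (by rw [subgroupOf_map_subtype]; exact inf_le_left)
          exact h0.of_equiv (((S₀ : Subgroup G).subgroupOf C).equivMapOfInjective _ C.subtype_injective).symm
        exact h2.to_le (zpowers_le.2 (mem_subgroupOf.2 hzS))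
    have h2 : z ∈ R := ⟨⟨z, hzC⟩, h1 (mem_zpowers _), rfl⟩
    rwa [hb, mem_bot] at h2
  · refine le_trans ?_ (hSC.trans hCR)
    rintro _ ⟨x, hx, rfl⟩
    exact mem_subgroupOf.1 (show x ∈ (S₀ : Subgroup G).subgroupOf H from hx)

/-- the centraliser of `F*(G)` -/
theorem centralizer_fstar {H : Type u} [Group H] [Finite H] [hs : IsSimpleGroup ↥(generalizedFittingSubgroup H)]
    (hna : ¬ IsMulCommutative ↥(generalizedFittingSubgroup H)) :
    centralizer (generalizedFittingSubgroup H : Set H) = ⊥ := by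
  rw [eq_bot_iff]
  intro x hx
  have h2 := Lib.GenFitting.centralizer_genFitting_le hx
  have h3 : (⟨x, h2⟩ : ↥(generalizedFittingSubgroup H)) ∈ center ↥(generalizedFittingSubgroup H) := by
    rw [mem_center_iff]
    intro y
    exact Subtype.ext (mem_centralizer_iff.1 hx y y.2)
  rw [FixBN.BTheorem.center_eq_bot hna, mem_bot] at h3
  exact congrArg Subtype.val h3

/-- the index of `F*(G)` -/
theorem index_dvd {H : Type u} [Group H] [Finite H] (hs : IsSimpleGroup ↥(generalizedFittingSubgroup H))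
    (hna : ¬ IsMulCommutative ↥(generalizedFittingSubgroup H)) {m : ℕ}
    (hA : Nat.card (MulAut ↥(generalizedFittingSubgroup H)) = m * Nat.card ↥(generalizedFittingSubgroup H)) :
    (generalizedFittingSubgroup H).index ∣ m := by
  have h1 := AltNine.card_normalizer_dvd (centralizer_fstar hna)
  have hn : (generalizedFittingSubgroup H).Normal := Lib.GenFitting.genFitting_normal
  rw [normalizer_eq_top_iff.2 hn, card_top, hA, ← (generalizedFittingSubgroup H).card_mul_index, mul_comm m] at h1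
  exact Nat.dvd_of_mul_dvd_mul_left Nat.card_pos h1

/-- **solvable centralisers** from `SC p F*(H)` -/
theorem exists_sol (sch : ∀ (X : Type u) [Group X] [Finite X] [IsSimpleGroup X], Group.IsSolvable (Out X))
    {H : Type u} [Group H] [Finite H] (hF : IsLieRankAtLeastTwoChar p ↥(generalizedFittingSubgroup H))
    (hsc : SC p ↥(generalizedFittingSubgroup H)) :
    ∃ t : H, IsPCentral p t ∧ Group.IsSolvable ↥(centralizer ({t} : Set H)) := by
  have hs := simple_of_chev hF.1
  have hna := not_comm hF.1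
  have hLn : (generalizedFittingSubgroup H).Normal := Lib.GenFitting.genFitting_normal
  obtain ⟨S⟩ : Nonempty (Sylow p H) := inferInstance
  have hSN : (S : Subgroup H) ≤ normalizer (generalizedFittingSubgroup H : Set H) := by
    rw [normalizer_eq_top_iff.2 hLn]
    exact le_top
  obtain ⟨z, hzL, hz, hSz, -⟩ := exists_zq hs hF hSN
  have hz1 : z ≠ 1 := by
    rintro rfl
    rw [orderOf_one] at hz
    exact hp.out.one_lt.ne hz
  refine ⟨z, ⟨hz1, S, hSz⟩, ?_⟩
  obtain ⟨P, hP⟩ := Dict.exists_sylow hSN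
  have hsolL : Group.IsSolvable ↥(centralizer ({(⟨z, hzL⟩ : ↥(generalizedFittingSubgroup H))} :
      Set ↥(generalizedFittingSubgroup H))) := by
    refine hsc P ⟨z, hzL⟩ (by rw [Subgroup.orderOf_mk]; exact hz) ?_
    intro x hx
    have h1 : x ∈ (P : Subgroup ↥(generalizedFittingSubgroup H)) := hx
    rw [hP, Subgroup.mem_subgroupOf] at h1
    apply Subtype.ext
    exact mem_centralizer_singleton_iff.1 (hSz h1)
  have hOut : Group.IsSolvable (Out ↥(generalizedFittingSubgroup H)) := sch _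
  let g : ↥(centralizer ({z} : Set H)) →* Out ↥(generalizedFittingSubgroup H) :=
    (QuotientGroup.mk' (Inn ↥(generalizedFittingSubgroup H))).comp
      ((MulAut.conjNormal (H := generalizedFittingSubgroup H)).comp (centralizer ({z} : Set H)).subtype)
  let i : ↥(centralizer ({(⟨z, hzL⟩ : ↥(generalizedFittingSubgroup H))} :
      Set ↥(generalizedFittingSubgroup H))) →* ↥(centralizer ({z} : Set H)) :=
    ((generalizedFittingSubgroup H).subtype.comp (centralizer ({(⟨z, hzL⟩ : ↥(generalizedFittingSubgroup H))} :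
      Set ↥(generalizedFittingSubgroup H))).subtype).codRestrict _ (by
        rintro ⟨x, hx⟩
        rw [mem_centralizer_singleton_iff] at hx ⊢
        exact congrArg Subtype.val hx)
  refine Group.isSolvable_of_ker_le_range i g ?_
  intro x hx
  have h1 : (MulAut.conjNormal (H := generalizedFittingSubgroup H)) (x : H) ∈ Inn ↥(generalizedFittingSubgroup H) :=
    (QuotientGroup.eq_one_iff _).1 hx
  obtain ⟨l, hl⟩ := h1
  have h2 : (l : H)⁻¹ * x ∈ centralizer (generalizedFittingSubgroup H : Set H) := by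
    rw [mem_centralizer_iff]
    intro y hy
    have h3 := congrArg (fun φ : MulAut ↥(generalizedFittingSubgroup H) => ((φ ⟨y, hy⟩ : ↥(generalizedFittingSubgroup H)) : H)) hl
    have h4 : (l : H) * y * (l : H)⁻¹ = x * y * (x : H)⁻¹ := h3
    have h5 : y = (l : H)⁻¹ * (x * y * (x : H)⁻¹) * l := by rw [← h4]; group
    calc y * ((l : H)⁻¹ * x) = (l : H)⁻¹ * (x * y * (x : H)⁻¹) * l * ((l : H)⁻¹ * x) := by rw [← h5]
      _ = (l : H)⁻¹ * x * y := by group
  rw [centralizer_fstar hna, mem_bot, inv_mul_eq_one] at h2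
  refine ⟨⟨l, ?_⟩, Subtype.ext h2⟩
  rw [mem_centralizer_singleton_iff]
  apply Subtype.ext
  change (l : H) * z = z * l
  rw [h2]
  exact mem_centralizer_singleton_iff.1 x.2

/-- `F*(G) = G` if `|G : F*(G)|` is a power of 2 and the Sylow 2-subgroup of `G` is not larger than that of `F*(G)` -/
theorem fstar_top [Fact (Nat.Prime 2)] (hs : IsSimpleGroup ↥(generalizedFittingSubgroup G))
    (hna : ¬ IsMulCommutative ↥(generalizedFittingSubgroup G)) {j : ℕ}
    (hA : Nat.card (MulAut ↥(generalizedFittingSubgroup G)) = 2 ^ j * Nat.card ↥(generalizedFittingSubgroup G))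
    {L : Subgroup G} (hCL : centralizer (L : Set G) = ⊥) (S₀ : Sylow 2 G) (hS : (S₀ : Subgroup G) ≤ normalizer (L : Set G))
    (hL : (Nat.card (MulAut ↥L)).factorization 2 ≤ (Nat.card ↥(generalizedFittingSubgroup G)).factorization 2) :
    generalizedFittingSubgroup G = ⊤ := by
  have h1 := index_dvd hs hna hA
  obtain ⟨i, -, hi⟩ := (Nat.dvd_prime_pow Nat.prime_two).1 h1
  have h2 : 2 ^ (Nat.card G).factorization 2 ∣ Nat.card (MulAut ↥L) := by
    rw [← S₀.card_eq_multiplicity]
    exact (card_dvd_of_le hS).trans (AltNine.card_normalizer_dvd hCL)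
  have hfin : Finite (MulAut ↥L) := inferInstance
  have h3 : (Nat.card G).factorization 2 ≤ (Nat.card (MulAut ↥L)).factorization 2 :=
    (Nat.prime_two.pow_dvd_iff_le_factorization Nat.card_pos.ne').1 h2
  rw [← (generalizedFittingSubgroup G).card_mul_index, hi, Nat.factorization_mul Nat.card_pos.ne'
    (pow_ne_zero _ two_ne_zero), Finsupp.add_apply, Nat.Prime.factorization_pow Nat.prime_two,
    Finsupp.single_eq_same] at h3
  have h4 : i = 0 := by omega
  rw [h4, pow_zero] at hi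
  exact index_eq_one.1 hi

theorem fac_eq {k m n q : ℕ} (hq : q.Prime) (hm : ¬ q ∣ m) (hn : n = q ^ k * m) : n.factorization q = k := by
  have hm0 : m ≠ 0 := by rintro rfl; exact hm (dvd_zero q)
  rw [hn, Nat.factorization_mul (pow_ne_zero _ hq.ne_zero) hm0, Finsupp.add_apply, Nat.Prime.factorization_pow hq,
    Finsupp.single_eq_same, Nat.factorization_eq_zero_of_not_dvd hm, add_zero]

/-- `|PSL₄(3)|`, `|Aut(PSL₄(3))|` -/
theorem card_l43 {K : Type u} [Group K] (h : PSLn 4 3 K) :
    Nat.card K = 6065280 ∧ Nat.card (MulAut K) = 2 ^ 2 * Nat.card K := by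
  obtain ⟨F, i1, i2, hF, ⟨e⟩⟩ := h
  have : Fact (Nat.Prime 3) := ⟨Nat.prime_three⟩
  have h1 := S0243.result hF 4 (by norm_num)
  have h2 : Nat.card (Matrix.ProjectiveSpecialLinearGroup (Fin 4) F) = 6065280 := by
    simp only [Fin.prod_univ_four] at h1
    norm_num only [_root_.Fin.coe_ofNat_eq_mod, _root_.pow_zero, _root_.Nat.add_one_sub_one, _root_.pow_one] at h1
    omega
  have h3 := Cfsg.Agent.ClassicalGeometry.PSL2Basic.card_PGL_mul (n := Fin 4) (F := F)
  have h4 : Nat.card (Matrix.ProjGenLinGroup (Fin 4) F) = 12130560 := by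
    rw [Matrix.card_GL_field, hF] at h3
    simp only [Fin.prod_univ_four] at h3
    norm_num only [_root_.Fin.coe_ofNat_eq_mod, _root_.pow_zero, _root_.Nat.add_one_sub_one, _root_.pow_one] at h3
    omega
  rw [H828.AutN.card_mulAut_congr e, Nat.card_congr e.toEquiv, S0813.result (F := F) 3 1 le_rfl (by rw [hF]; norm_num) 4
    (by norm_num) (by norm_num), h2, h4]
  norm_num

/-- `|Aut(PSU₄(2))|` -/
theorem card_u42 {K : Type u} [Group K] (h : PSUn 4 2 K) : (Nat.card (MulAut K)).factorization 2 = 7 := by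
  obtain ⟨F, i1, i2, hF, ⟨e⟩⟩ := h
  have : Fact (Nat.Prime 2) := ⟨Nat.prime_two⟩
  have h1 := S0280.result hF 4 (by norm_num)
  have h2 : Nat.card (PSU 4 F 2) = 25920 := by
    simp only [Finset.prod_range_succ, Finset.prod_range_zero] at h1
    have e0 : Even 0 := by decide
    have e1 : ¬ Even 1 := by decide
    have e2 : Even 2 := by decide
    have e3 : ¬ Even 3 := by decide
    rw [if_pos e0, if_neg e1, if_pos e2, if_neg e3] at h1
    norm_num at h1
    omega
  rw [H828.AutN.card_mulAut_congr e, S0815.result (F := F) 2 1 le_rfl (q := 2) rfl hF 4 (by norm_num) (by norm_num), h2]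
  exact fac_eq (m := 405) Nat.prime_two (by norm_num) (by norm_num)

/-- `|A₁₀|`, `|Aut(A₁₀)|` -/
theorem card_a10 {K : Type u} [Group K] (h : Alt 10 K) :
    Nat.card K = 1814400 ∧ Nat.card (MulAut K) = 2 ^ 1 * Nat.card K := by
  obtain ⟨e⟩ := h
  have h1 := Nat.card_congr (Equiv.ofBijective _ (Cfsg.Agent.S2119.result 10 (by norm_num) (by norm_num)))
  rw [Nat.card_perm, Nat.card_fin] at h1
  have : Nontrivial (Fin 10) := inferInstance
  have h2 := two_mul_nat_card_alternatingGroup (α := Fin 10)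
  rw [Nat.card_perm, Nat.card_fin] at h2
  have h3 : Nat.factorial 10 = 3628800 := rfl
  rw [h3] at h1 h2
  rw [H828.AutN.card_mulAut_congr e, Nat.card_congr e.toEquiv, ← h1]
  omega

/-- `|Aut(A₈)|` -/
theorem card_a8 {K : Type u} [Group K] (e : K ≃* ↥(alternatingGroup (Fin 8))) :
    (Nat.card (MulAut K)).factorization 2 = 7 := by
  have h1 := Nat.card_congr (Equiv.ofBijective _ (Cfsg.Agent.S2119.result 8 (by norm_num) (by norm_num)))
  rw [Nat.card_perm, Nat.card_fin] at h1
  rw [H828.AutN.card_mulAut_congr e, ← h1]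
  have h3 : Nat.factorial 8 = 40320 := rfl
  rw [h3]
  exact fac_eq (m := 315) Nat.prime_two (by norm_num) (by norm_num)

end Cfsg.Agent.H238.Last
end

-- part: H238/LastB
section
/-!
# S2891, S2892 from S2888 (helper238), the theorems
-/

set_option autoImplicit false
set_option linter.unusedSectionVars false

namespace Cfsg.Agent.H238.Last

open Subgroup Cfsg
open Cfsg.Agent.H239.CharPLocal (CP)
open Cfsg.Agent.H226 Cfsg.Agent.H226.KList Cfsg.Agent.H226.ParG Cfsg.Agent.H226.Setup
open Cfsg.Agent.H238.SolCent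

universe u

variable {G : Type u} [Group G] [Finite G] {p : ℕ} [hp : Fact p.Prime]

/-- the kills for `p = 2` -/
theorem kill_two (S₀ : Sylow 2 G) (H : Subgroup G) (hS : (S₀ : Subgroup G) ≤ H)
    (hN : normalizer (((generalizedFittingSubgroup ↥H).map H.subtype : Subgroup G) : Set G) = H)
    [Fact (Nat.Prime 2)]
    (hF : IsLieRankAtLeastTwoChar 2 ↥(generalizedFittingSubgroup ↥H)) {z : G} (hz1 : z ≠ 1)
    (hzS : z ∈ (S₀ : Subgroup G)) (hzc : ∀ s ∈ (S₀ : Subgroup G), s * z = z * s)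
    (hzn : ¬ normalizer (((pCore 2 ↥(centralizer ({z} : Set G))).map (centralizer ({z} : Set G)).subtype :
      Subgroup G) : Set G) ≤ H)
    (h : (PSLn 4 3 ↥(generalizedFittingSubgroup G) ∧ PSUn 4 2 ↥(generalizedFittingSubgroup ↥H)) ∨
      (Alt 10 ↥(generalizedFittingSubgroup G) ∧ PSLn 4 2 ↥(generalizedFittingSubgroup ↥H))) : False := by
  have hs := simple_of_chev hF.1
  have hna := not_comm hF.1
  set L : Subgroup G := (generalizedFittingSubgroup ↥H).map H.subtype with hL
  let e : ↥(generalizedFittingSubgroup ↥H) ≃* ↥L :=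
    (generalizedFittingSubgroup ↥H).equivMapOfInjective H.subtype H.subtype_injective
  have hCL : centralizer (L : Set G) = ⊥ :=
    H245.RedTwo.centralizer_eq_bot hs hna ((centralizer_le_normalizer _).trans hN.le)
  have hSN : (S₀ : Subgroup G) ≤ normalizer (L : Set G) := by rw [hN]; exact hS
  rcases h with ⟨h1, h2⟩ | ⟨h1, h2⟩
  · obtain ⟨c1, c2⟩ := card_l43 h1
    have hsG : IsSimpleGroup ↥(generalizedFittingSubgroup G) := by
      obtain ⟨F, i1, i2, hF', ⟨f⟩⟩ := h1
      have : Fact (Nat.Prime 3) := ⟨Nat.prime_three⟩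
      exact H400.LieSimple.isSimple_of_lie (p := 3) (Or.inl ⟨F, i1, i2, charP_of_card_eq_prime hF', 4, by norm_num, by norm_num, ⟨f⟩⟩)
    have hnaG : ¬ IsMulCommutative ↥(generalizedFittingSubgroup G) := not_comm_of_card hsG c1 (by norm_num)
    have ht := fstar_top hsG hnaG c2 hCL S₀ hSN (by
      rw [card_u42 (h2.congr e), c1, fac_eq (k := 7) (m := 47385) Nat.prime_two (by norm_num) (by norm_num)])
    have f : ↥(generalizedFittingSubgroup G) ≃* G := (MulEquiv.subgroupCongr ht).trans topEquiv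
    have h3 := H334.KillL43.kill_l43 (h1.congr f) (h2.congr e) hSN hz1 hzS hzc
    rw [hN] at h3
    exact hzn h3
  · obtain ⟨c1, c2⟩ := card_a10 h1
    obtain ⟨f10⟩ := h1
    have hsG : IsSimpleGroup ↥(generalizedFittingSubgroup G) := by
      have : IsSimpleGroup ↥(alternatingGroup (Fin 10)) := alternatingGroup.isSimpleGroup (by simp)
      exact f10.isSimpleGroup
    have hnaG : ¬ IsMulCommutative ↥(generalizedFittingSubgroup G) := not_comm_of_card hsG c1 (by norm_num)
    obtain ⟨F, i1, i2, hF', ⟨f8⟩⟩ := h2.congr e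
    obtain ⟨g8⟩ := Cfsg.Agent.S0256.result (F := F) hF'
    have ht := fstar_top hsG hnaG c2 hCL S₀ hSN (by
      rw [card_a8 (f8.trans g8), c1, fac_eq (k := 7) (m := 14175) Nat.prime_two (by norm_num) (by norm_num)])
    have f : ↥(generalizedFittingSubgroup G) ≃* G := (MulEquiv.subgroupCongr ht).trans topEquiv
    have h3 := H605.A10.kill_a10 (f.symm.trans f10) (f8.trans g8) hSN hz1 hzS hzc
    rw [hN] at h3
    exact hzn h3

/-- `Aut(G₂(5)) = Inn(G₂(5))` -/
theorem card_aut_g25 {L : Type u} [Group L] [Finite L] (hs : IsSimpleGroup L) (hna : ¬ IsMulCommutative L)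
    (h : GTwo 5 L) : Nat.card (MulAut L) = 1 * Nat.card L := by
  obtain ⟨F, i1, i2, hF, ⟨e⟩⟩ := h
  have : Fact (Nat.Prime 5) := ⟨by norm_num⟩
  have hch : CharP F 5 := charP_of_card_eq_prime hF
  have hz' : Subgroup.center ↥(Cfsg.Lie.chevG2.group F) = ⊥ := by
    rw [eq_bot_iff]
    intro x hx
    have h1 : e.symm x ∈ center L := by
      rw [mem_center_iff] at hx ⊢
      intro g
      apply e.injective
      rw [map_mul, map_mul, MulEquiv.apply_symm_apply]
      exact hx (e g)
    rw [FixBN.BTheorem.center_eq_bot hna, mem_bot] at h1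
    rw [mem_bot]
    exact (map_eq_one_iff e.symm e.symm.injective).1 h1
  have h1 := Cfsg.Agent.S2121.result (F := F) 5 1 (by rw [hF]; norm_num) (by norm_num)
  rw [if_neg (by norm_num)] at h1
  rw [H828.AutN.card_mulAut_congr e, H828.AutN.card_mulAut_of_out hz' h1, Nat.card_congr e.toEquiv]

/-- `H ≅ G₂(5)` -/
theorem g25_top {H : Type u} [Group H] [Finite H] (hs : IsSimpleGroup ↥(generalizedFittingSubgroup H))
    (hna : ¬ IsMulCommutative ↥(generalizedFittingSubgroup H)) (h : GTwo 5 ↥(generalizedFittingSubgroup H)) :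
    GTwo 5 H := by
  have h1 := index_dvd hs hna (card_aut_g25 hs hna h)
  have ht : generalizedFittingSubgroup H = ⊤ := index_eq_one.1 (Nat.dvd_one.1 h1)
  exact h.congr ((MulEquiv.subgroupCongr ht).trans topEquiv)

/-- in parabolic characteristic `p` a Sylow subgroup contains its centraliser -/
theorem mem_of_centralizes (hpar : IsOfParabolicCharacteristic p G) {S : Sylow p G} (hS1 : (S : Subgroup G) ≠ ⊥)
    {t : G} (ht : (S : Subgroup G) ≤ centralizer ({t} : Set G)) : t ∈ (S : Subgroup G) := by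
  obtain ⟨r, hrS, hr, hSr⟩ := exists_central (S := S) (R := (S : Subgroup G)) hS1 le_rfl le_normalizer
  have hcp := ParRed.cp_centralizer_of_parabolic hpar S hr hSr
  set C := centralizer ({r} : Set G) with hC
  have hn : (pCore p ↥C).Normal := Lib.Cores.pCore_normal p
  have hTS : (pCore p ↥C).map C.subtype ≤ (S : Subgroup G) := by
    refine Dict.le_sylow ((Lib.Cores.pCore_isPGroup p).map _) ?_
    intro c hc
    rw [mem_normalizer_iff]
    intro x
    have hc' := hSr hc
    constructor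
    · rintro ⟨y, hy, rfl⟩
      exact ⟨(⟨c, hc'⟩ * y * ⟨c, hc'⟩⁻¹ :), hn.conj_mem y hy _, rfl⟩
    · rintro ⟨y, hy, hyx⟩
      refine ⟨(⟨c, hc'⟩⁻¹ * y * ⟨c, hc'⟩ :), ?_, ?_⟩
      · have := hn.conj_mem y hy ⟨c, hc'⟩⁻¹
        rwa [inv_inv] at this
      · change c⁻¹ * (y : G) * c = x
        have h1 : (y : G) = c * x * c⁻¹ := hyx
        rw [h1]
        group
  have htC : t ∈ C := by
    rw [hC, mem_centralizer_singleton_iff]
    exact (mem_centralizer_singleton_iff.1 (ht hrS)).symm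
  have h1 : (⟨t, htC⟩ : ↥C) ∈ centralizer (pCore p ↥C : Set ↥C) := by
    rw [mem_centralizer_iff]
    intro y hy
    apply Subtype.ext
    exact mem_centralizer_singleton_iff.1 (ht (hTS ⟨y, hy, rfl⟩))
  exact hTS ⟨⟨t, htC⟩, hcp h1, rfl⟩

/-- the kill of `(Ly, G₂(5))` in S2892 -/
theorem kill_ly [Fact (Nat.Prime 5)] (hpar : IsOfParabolicCharacteristic 5 G) (H : Subgroup G)
    (hidx : ¬ 5 ∣ H.index)
    (hF : IsLieRankAtLeastTwoChar 5 ↥(generalizedFittingSubgroup ↥H)) (h : GTwo 5 ↥(generalizedFittingSubgroup ↥H))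
    {t : ↥H} (ht : IsPCentral 5 t) (hsol : Group.IsSolvable ↥(centralizer ({t} : Set ↥H))) : False := by
  have hs := simple_of_chev hF.1
  have hna := not_comm hF.1
  have hH := g25_top hs hna h
  obtain ⟨ht1, T, hT⟩ := ht
  -- `T` as a Sylow subgroup of `G`
  have h1 : IsPGroup 5 ((T : Subgroup ↥H).map H.subtype) := T.isPGroup'.map _
  have h2 : ¬ 5 ∣ ((T : Subgroup ↥H).map H.subtype).index := by
    rw [Subgroup.index_map_subtype]
    intro h
    rcases (Nat.Prime.dvd_mul (by norm_num)).1 h with h | h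
    · exact T.not_dvd_index h
    · exact hidx h
  let S : Sylow 5 G := h1.toSylow h2
  have hSeq : (S : Subgroup G) = (T : Subgroup ↥H).map H.subtype := rfl
  have hS1 : (S : Subgroup G) ≠ ⊥ := by
    obtain ⟨z, hzL, hz, -⟩ := exists_zq hs hF (S := T) (by
      rw [normalizer_eq_top_iff.2 Lib.GenFitting.genFitting_normal]; exact le_top)
    have h5 : 5 ∣ Nat.card ↥H := by rw [← hz]; exact _root_.orderOf_dvd_natCard z
    have h6 := T.dvd_card_of_dvd_card h5
    rw [hSeq, Ne, Subgroup.map_eq_bot_iff_of_injective _ H.subtype_injective]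
    intro hb
    rw [hb, Subgroup.card_bot] at h6
    omega
  have h3 := mem_of_centralizes hpar (S := S) (t := (t : G)) hS1 (by
    rw [hSeq]
    rintro _ ⟨s, hs, rfl⟩
    rw [mem_centralizer_singleton_iff]
    exact congrArg Subtype.val (mem_centralizer_singleton_iff.1 (hT hs)))
  rw [hSeq] at h3
  obtain ⟨s, hsT, hst⟩ := h3
  have hst' : s = t := Subtype.ext hst
  subst hst'
  exact GFiveNS.not_solvable hH T ht1 hsT (fun x hx => mem_centralizer_singleton_iff.1 (hT hx)) hsol

/-- **S2892.** -/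
theorem s2892 (h88 : H88.{u}) (hpar : IsOfParabolicCharacteristic p G) (S₀ : Sylow p G) (H : Subgroup G)
    (hS : (S₀ : Subgroup G) ≤ H)
    (hN : normalizer (((generalizedFittingSubgroup ↥H).map H.subtype : Subgroup G) : Set G) = H)
    (hF : IsLieRankAtLeastTwoChar p ↥(generalizedFittingSubgroup ↥H))
    (hz : ∃ z : G, z ≠ 1 ∧ z ∈ (S₀ : Subgroup G) ∧ (∀ s ∈ (S₀ : Subgroup G), s * z = z * s) ∧
      ¬ normalizer (((pCore p ↥(centralizer ({z} : Set G))).map (centralizer ({z} : Set G)).subtype :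
        Subgroup G) : Set G) ≤ H)
    (hsol : ∃ t : ↥H, IsPCentral p t ∧ Group.IsSolvable ↥(centralizer ({t} : Set ↥H))) :
    (p = 2 ∧ ((Spor.IsoM11 ↥(generalizedFittingSubgroup G) ∧ Alt 6 ↥(generalizedFittingSubgroup ↥H)) ∨
      (Spor.IsoM23 ↥(generalizedFittingSubgroup G) ∧ PSLn 3 4 ↥(generalizedFittingSubgroup ↥H)) ∨
      (GTwo 3 ↥(generalizedFittingSubgroup G) ∧ PSUn 3 3 ↥(generalizedFittingSubgroup ↥H)) ∨
      (OPlus 4 3 ↥(generalizedFittingSubgroup G) ∧ OPlus 4 2 ↥(generalizedFittingSubgroup ↥H)))) ∨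
    (p = 3 ∧ ((FFour 2 ↥(generalizedFittingSubgroup G) ∧ PSLn 4 3 ↥(generalizedFittingSubgroup ↥H)) ∨
      (PSUn 6 2 ↥(generalizedFittingSubgroup G) ∧ PSUn 4 3 ↥(generalizedFittingSubgroup ↥H)) ∨
      (Spor.IsoMcL ↥(generalizedFittingSubgroup G) ∧ PSUn 4 3 ↥(generalizedFittingSubgroup ↥H)) ∨
      (Spor.IsoCo2 ↥(generalizedFittingSubgroup G) ∧ PSUn 4 3 ↥(generalizedFittingSubgroup ↥H)) ∨
      (TwESix 2 ↥(generalizedFittingSubgroup G) ∧ OOdd 3 3 ↥(generalizedFittingSubgroup ↥H)) ∨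
      (Spor.IsoFi22 ↥(generalizedFittingSubgroup G) ∧ OOdd 3 3 ↥(generalizedFittingSubgroup ↥H)) ∨
      (Spor.IsoFi23 ↥(generalizedFittingSubgroup G) ∧ OPlus 4 3 ↥(generalizedFittingSubgroup ↥H)) ∨
      (Spor.IsoB ↥(generalizedFittingSubgroup G) ∧ OPlus 4 3 ↥(generalizedFittingSubgroup ↥H)))) ∨
    ((p = 3 ∨ p = 5 ∨ p = 7 ∨ p = 13) ∧ PSLn 3 p ↥(generalizedFittingSubgroup ↥H)) := by
  obtain ⟨z, hz1, hzS, hzc, hzn⟩ := hz
  rcases concl h88 hpar S₀ H hS hN hF hz1 hzS hzc hzn with ⟨h2, h3 | h3 | h3 | h3 | h3 | h3⟩ | h2 | ⟨h2, h3, h4⟩ | h2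
  · exact Or.inl ⟨h2, Or.inl h3⟩
  · subst h2
    exact (kill_two S₀ H hS hN hF hz1 hzS hzc hzn (Or.inl h3)).elim
  · exact Or.inl ⟨h2, Or.inr (Or.inr (Or.inl h3))⟩
  · exact Or.inl ⟨h2, Or.inr (Or.inl h3)⟩
  · subst h2
    exact (kill_two S₀ H hS hN hF hz1 hzS hzc hzn (Or.inr h3)).elim
  · exact Or.inl ⟨h2, Or.inr (Or.inr (Or.inr h3))⟩
  · exact Or.inr (Or.inl h2)
  · subst h2
    obtain ⟨t, ht, hts⟩ := hsol
    exact (kill_ly hpar H (fun h => S₀.not_dvd_index (h.trans (Subgroup.index_dvd_of_le hS))) hF h4 ht hts).elim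
  · exact Or.inr (Or.inr h2)

/-- the groups `L` of the list with solvable centralisers -/
def SCs : Prop :=
  ∀ {L : Type u} [Group L] [Finite L],
    ((Alt 6 L ∨ PSUn 4 2 L ∨ PSUn 3 3 L ∨ PSLn 3 4 L ∨ PSLn 4 2 L ∨ OPlus 4 2 L) → SC 2 L) ∧
    ((PSLn 4 3 L ∨ PSUn 4 3 L ∨ OOdd 3 3 L ∨ OPlus 4 3 L) → SC 3 L) ∧
    (∀ {p : ℕ} [Fact p.Prime], PSLn 3 p L → SC p L)

/-- **S2891.** -/
theorem s2891 (h88 : H88.{u}) (sch : ∀ (X : Type u) [Group X] [Finite X] [IsSimpleGroup X], Group.IsSolvable (Out X))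
    (sc : SCs.{u}) (hpar : IsOfParabolicCharacteristic p G) (S₀ : Sylow p G) (H : Subgroup G)
    (hS : (S₀ : Subgroup G) ≤ H)
    (hN : normalizer (((generalizedFittingSubgroup ↥H).map H.subtype : Subgroup G) : Set G) = H)
    (hF : IsLieRankAtLeastTwoChar p ↥(generalizedFittingSubgroup ↥H))
    (hz : ∃ z : G, z ≠ 1 ∧ z ∈ (S₀ : Subgroup G) ∧ (∀ s ∈ (S₀ : Subgroup G), s * z = z * s) ∧
      ¬ normalizer (((pCore p ↥(centralizer ({z} : Set G))).map (centralizer ({z} : Set G)).subtype :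
        Subgroup G) : Set G) ≤ H)
    (hns : ∀ t : ↥H, IsPCentral p t → ¬ Group.IsSolvable ↥(centralizer ({t} : Set ↥H))) :
    p = 5 ∧ GTwo 5 ↥H ∧ Spor.IsoLy G := by
  obtain ⟨z, hz1, hzS, hzc, hzn⟩ := hz
  have key : SC p ↥(generalizedFittingSubgroup ↥H) → False := by
    intro h
    obtain ⟨t, h1, h2⟩ := exists_sol sch hF h
    exact hns t h1 h2
  rcases concl h88 hpar S₀ H hS hN hF hz1 hzS hzc hzn with
    ⟨h2, ⟨h3, h4⟩ | ⟨h3, h4⟩ | ⟨h3, h4⟩ | ⟨h3, h4⟩ | ⟨h3, h4⟩ | ⟨h3, h4⟩⟩ |
    ⟨h2, ⟨h3, h4⟩ | ⟨h3, h4⟩ | ⟨h3, h4⟩ | ⟨h3, h4⟩ | ⟨h3, h4⟩ | ⟨h3, h4⟩ | ⟨h3, h4⟩ | ⟨h3, h4⟩⟩ | ⟨h2, h3, h4⟩ | ⟨h2, h4⟩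
  · subst h2; exact (key (sc.1 (Or.inl h4))).elim
  · subst h2; exact (key (sc.1 (Or.inr (Or.inl h4)))).elim
  · subst h2; exact (key (sc.1 (Or.inr (Or.inr (Or.inl h4))))).elim
  · subst h2; exact (key (sc.1 (Or.inr (Or.inr (Or.inr (Or.inl h4)))))).elim
  · subst h2; exact (key (sc.1 (Or.inr (Or.inr (Or.inr (Or.inr (Or.inl h4))))))).elim
  · subst h2; exact (key (sc.1 (Or.inr (Or.inr (Or.inr (Or.inr (Or.inr h4))))))).elim
  · subst h2; exact (key (sc.2.1 (Or.inl h4))).elim
  · subst h2; exact (key (sc.2.1 (Or.inr (Or.inl h4)))).elim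
  · subst h2; exact (key (sc.2.1 (Or.inr (Or.inl h4)))).elim
  · subst h2; exact (key (sc.2.1 (Or.inr (Or.inl h4)))).elim
  · subst h2; exact (key (sc.2.1 (Or.inr (Or.inr (Or.inl h4))))).elim
  · subst h2; exact (key (sc.2.1 (Or.inr (Or.inr (Or.inl h4))))).elim
  · subst h2; exact (key (sc.2.1 (Or.inr (Or.inr (Or.inr h4))))).elim
  · subst h2; exact (key (sc.2.1 (Or.inr (Or.inr (Or.inr h4))))).elim
  · subst h2
    exact ⟨rfl, g25_top (simple_of_chev hF.1) (not_comm hF.1) h4, h3⟩
  · exact (key (sc.2.2 h4)).elim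

end Cfsg.Agent.H238.Last
end

-- part: H238/Get88
section
/-!
# S2888 in the form `H88` (helper238)
-/

set_option autoImplicit false

namespace Cfsg.Agent.H238.Last

open Cfsg Subgroup
open Cfsg.Agent.H226 Cfsg.Agent.H226.KLevel

universe u

theorem h88 (hcl : ∀ (X : Type u) [Group X] [Finite X] [IsSimpleGroup X], IsKnownSimple' X) (rows : ParRows.{u}) :
    H88.{u} := fun hpar H hidx hN hF hloc =>
  ParG.s2888 hcl rows (fun X _ _ h => H237.OSevenG.not_parabolic_o73 h) H5.Piv.pivLemma hpar H hidx hN hF hloc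

end Cfsg.Agent.H238.Last
end

private theorem dce_ced2257bf46a : _root_.True := by
  try have : _root_.True := by simp only [_root_.Matrix.ProjGenLinGroup.congr_simp]
  exact _root_.True.intro
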